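import Mathlib
import Cfsg.Agent.Lib.Helper8.XSPg

set_option autoImplicit false
set_option linter.unusedSectionVars false

/-! The bridge: a family of pairwise non-commuting "radical" elements of an extraspecial Sylow
`p`-subgroup of order `p³` and exponent `p` is small. -/

namespace Cfsg.Agent.Lib.Helper8.XSP

open scoped commutatorElement LinearAlgebra.Projectivization
open Cfsg.Agent.Lib.Helper1 Cfsg.Agent.Lib.Helper8.AutQuot

theorem bridge {G : Type*} [Group G] [Finite G] {p : ℕ} [hp : Fact p.Prime] (P : Sylow p G)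
    (hX : Cfsg.IsExtraspecial p ↥P) (hcard : Nat.card P = p ^ 3)
    (hexp : Monoid.exponent ↥P = p)
    (z : G) (hzP : z ∈ P) (hzc : Subgroup.center ↥P = Subgroup.zpowers ⟨z, hzP⟩)
    {ι : Type*} [Finite ι] (y : ι → G) (hyP : ∀ i, y i ∈ P)
    (hind : ∀ i j, i ≠ j → y i * y j ≠ y j * y i)
    (hrad : ∀ i, ∀ s : ZMod p, ∃ g : G, g * z * g⁻¹ = z * zp (y i) s ∧ g * y i * g⁻¹ = y i)
    (l : (ZMod p)ˣ) (m : ℕ) (hm : m = orderOf (l ^ 3)) :
    (6 ≤ m → Nat.card ι ≤ 2) ∧ (m = 4 → Nat.card ι ≤ 6) := by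
  classical
  -- trivial when `ι` has at most one element
  by_cases hsub : Subsingleton ι
  · have : Nat.card ι ≤ 1 := Finite.card_le_one_iff_subsingleton.mpr hsub
    exact ⟨fun _ => by omega, fun _ => by omega⟩
  rw [not_subsingleton_iff_nontrivial] at hsub
  have hexpT : ∀ a : ↥P, a ^ p = 1 := by
    intro a
    have h := Monoid.pow_exponent_eq_one a
    rwa [hexp] at h
  have hcc := special_commCentral hX.1
  let zT : ↥P := ⟨z, hzP⟩
  let yT : ι → ↥P := fun i => ⟨y i, hyP i⟩
  have hzTc : zT ∈ Subgroup.center ↥P := by rw [hzc]; exact Subgroup.mem_zpowers _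
  have hzp : z ^ p = 1 := by
    have := congrArg Subtype.val (hexpT zT)
    simpa using this
  have hyp : ∀ i, y i ^ p = 1 := by
    intro i
    have := congrArg Subtype.val (hexpT (yT i))
    simpa using this
  -- non-commuting partners
  have hpartner : ∀ i, ∃ j, ⁅yT j, yT i⁆ ≠ 1 := by
    intro i
    obtain ⟨j, hj⟩ := exists_ne i
    refine ⟨j, ?_⟩
    rw [Ne, commutatorElement_eq_one_iff_mul_comm]
    intro h
    exact hind j i hj (congrArg Subtype.val h)
  have hne0 : ∀ i, vec hexpT (yT i) ≠ 0 := by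
    intro i
    obtain ⟨j, hj⟩ := hpartner i
    exact vec_ne_zero hX hexpT hj
  let pt : ι → ℙ (ZMod p) (Vab ↥P p hexpT) := fun i =>
    Projectivization.mk (ZMod p) (vec hexpT (yT i)) (hne0 i)
  have hpt : Function.Injective pt := by
    intro i j hij
    by_contra hne
    rw [Projectivization.mk_eq_mk_iff] at hij
    obtain ⟨a, ha⟩ := hij
    have ha' : (a : ZMod p) • vec hexpT (yT j) = vec hexpT (yT i) := ha
    rw [← vec_zp, vec_eq_iff] at ha'
    obtain ⟨c, hc, hc2⟩ := ha'
    rw [hX.1.2.2] at hc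
    apply hind j i (Ne.symm hne)
    have h5 : yT i = zp (yT j) (a : ZMod p) * c⁻¹ := by rw [hc2]; group
    have h1 : ⁅yT j, yT i⁆ = 1 := by
      rw [h5, hcc.comm_mul_right, comm_central_right _ c⁻¹ (inv_mem hc), mul_one]
      have := comm_self_zp (yT j) (1 : ZMod p) (a : ZMod p)
      rwa [zp_one] at this
    exact congrArg Subtype.val (commutatorElement_eq_one_iff_mul_comm.mp h1)
  -- the representation
  let N := Subgroup.normalizer (((P : Subgroup G)) : Set G)
  let ρ : ↥N →* Module.End (ZMod p) (Vab ↥P p hexpT) := (rho hexpT).comp (conjE (P : Subgroup G))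
  let K : Subgroup ↥N := (P : Subgroup G).subgroupOf N
  have hK : K ≤ ρ.ker := by
    intro n hn
    have hnP : (n : G) ∈ (P : Subgroup G) := Subgroup.mem_subgroupOf.mp hn
    rw [MonoidHom.mem_ker]
    show rho hexpT (conjE (P : Subgroup G) n) = 1
    have : conjE (P : Subgroup G) n = MulAut.conj (⟨(n : G), hnP⟩ : ↥P) := by
      ext a
      rfl
    rw [this, rho_conj]
  have hcop : K.index.Coprime p := by
    have h1 : K.index ∣ (P : Subgroup G).index :=
      Subgroup.relIndex_dvd_index_of_le Subgroup.le_normalizer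
    have h2 : ¬ p ∣ (P : Subgroup G).index := P.not_dvd_index
    rw [Nat.coprime_comm, Nat.Prime.coprime_iff_not_dvd hp.out]
    exact fun h => h2 (h.trans h1)
  have hfin : Module.finrank (ZMod p) (Vab ↥P p hexpT) = 2 := by
    apply finrank_vab hexpT hcard
    rw [hX.1.2.2]; exact hX.2
  have hB := lines_bound p hfin ρ K hK hcop m (Set.range pt) ?_
  · rwa [Set.ncard_range_of_injective hpt] at hB
  rintro _ ⟨i, rfl⟩
  obtain ⟨j, hj⟩ := hpartner i
  have hyic : yT i ∉ Subgroup.center ↥P := fun h => hj (comm_central_right _ _ h)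
  -- central facts in `G`
  have hzcG : ∀ x ∈ P, x * z * x⁻¹ = z := by
    intro x hx
    have := Subgroup.mem_center_iff.mp hzTc ⟨x, hx⟩
    have h2 : x * z = z * x := congrArg Subtype.val this
    rw [h2]; group
  have hcommG : ∀ x ∈ P, ∀ w ∈ P, x * w * x⁻¹ * w⁻¹ ∈ Subgroup.zpowers z := by
    intro x hx w hw
    have h1 : ⁅(⟨x, hx⟩ : ↥P), ⟨w, hw⟩⁆ ∈ Subgroup.zpowers zT := by
      rw [← hzc]; exact comm_mem_center hX _ _
    obtain ⟨k, hk⟩ := Subgroup.mem_zpowers_iff.mp h1
    rw [Subgroup.mem_zpowers_iff]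
    refine ⟨k, ?_⟩
    have := congrArg Subtype.val hk
    simpa [commutatorElement_def] using this
  have hzy : Commute z (y i) := by
    have := hzcG (y i) (hyP i)
    show z * y i = y i * z
    calc z * y i = (y i * z * (y i)⁻¹) * y i := by rw [this]
      _ = y i * z := by group
  -- the two unipotent families
  have hτ : ∀ s : ZMod p, ∃ g : G, Acts z (y i) g (tauM s) := by
    intro s
    obtain ⟨x, hx⟩ := exists_comm_eq hX hexpT zT (yT i) hzc hyic s
    refine ⟨(x : G), acts_tau s (hzcG x x.2) ?_⟩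
    have h1 : x * yT i * x⁻¹ = zp zT s * yT i := by
      rw [← hx, commutatorElement_def]; group
    have h2 := congrArg Subtype.val h1
    rw [Subgroup.coe_mul, Subgroup.coe_mul, Subgroup.coe_mul, Subgroup.coe_inv, coe_zp] at h2
    exact h2
  have hσ : ∀ s : ZMod p, ∃ g : G, Acts z (y i) g (sigM s) := by
    intro s
    obtain ⟨g, h1, h2⟩ := hrad i s
    exact ⟨g, acts_sig s h1 h2⟩
  obtain ⟨g, hgz, hgy⟩ := exists_torus hzp (hyp i) hzy hτ hσ l
  obtain ⟨n, hn, hnz, c, hc, hny⟩ :=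
    lemma_I P z (y i) (hyP i) hzcG hcommG hzp (hyp i) l g hgz hgy
  let nN : ↥N := ⟨n, hn⟩
  obtain ⟨k, hk⟩ := Subgroup.mem_zpowers_iff.mp hc
  have hcT : zT ^ k ∈ Subgroup.center ↥P := zpow_mem hzTc k
  have hαz : conjE (P : Subgroup G) nN zT = zp zT (l : ZMod p) := by
    apply Subtype.ext
    rw [conjE_apply_coe, coe_zp]
    exact hnz
  have hαy : conjE (P : Subgroup G) nN (yT i) = zT ^ k * zp (yT i) ((l : ZMod p)⁻¹) := by
    apply Subtype.ext
    rw [conjE_apply_coe, Subgroup.coe_mul, coe_zp, Subgroup.coe_zpow]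
    show n * y i * n⁻¹ = z ^ k * _
    rw [hk]
    exact hny
  obtain ⟨hd1, hd2⟩ := line_data hX hexpT zT (yT j) (yT i) hzc hj (conjE (P : Subgroup G) nN)
    (l : ZMod p) l.ne_zero hαz (zT ^ k) hcT hαy
  refine ⟨nN, vec hexpT (yT i), vec hexpT (yT j), hne0 i, (l : ZMod p)⁻¹, (l : ZMod p) ^ 2, rfl,
    hd1, vec_indep hX hexpT hj, hd2, ?_⟩
  intro k hk
  rw [hm]
  exact units_order_aux l k hk

end Cfsg.Agent.Lib.Helper8.XSP
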