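import Mathlib
import Cfsg.Agent.Lib.Helper8.XSPd

set_option autoImplicit false
set_option linter.unusedSectionVars false

/-! The shear automorphism of an elementary abelian group of order `p²`. -/

namespace Cfsg.Agent.Lib.Helper8.XSP

variable {p : ℕ} [hp : Fact p.Prime]

theorem shear {B : Type*} [Group B] [Finite B] (hB2 : Nat.card B = p ^ 2)
    (hB : ∀ b : B, b ^ p = 1) (zB yB : B) (hy1 : yB ≠ 1) (hz : zB ∉ Subgroup.zpowers yB) :
    ∃ φ : MulAut B, orderOf φ = p ∧ φ yB = yB ∧ ∃ e : ZMod p, e ≠ 0 ∧ φ zB = zB * zp yB e := by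
  have hcomm : ∀ a b : B, a * b = b * a := IsPGroup.commutative_of_card_eq_prime_sq hB2
  let Y : Subgroup B := Subgroup.zpowers yB
  have hYn : Y.Normal := ⟨fun n hn g => by
    rw [hcomm g n, mul_inv_cancel_right]; exact hn⟩
  have hYcard : Nat.card Y = p := by
    show Nat.card (Subgroup.zpowers yB) = p
    rw [Nat.card_zpowers, orderOf_eq_prime (hB yB) hy1]
  have hQcard : Nat.card (B ⧸ Y) = p := by
    have h := Subgroup.card_eq_card_quotient_mul_card_subgroup Y
    rw [hB2, hYcard, pow_two] at h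
    exact (Nat.eq_of_mul_eq_mul_right hp.out.pos h).symm
  let iso : B ⧸ Y ≃* Y := mulEquivOfPrimeCardEq hQcard hYcard
  let θ : B →* B := Y.subtype.comp (iso.toMonoidHom.comp (QuotientGroup.mk' Y))
  have hθmem : ∀ b, θ b ∈ Y := fun b => (iso (QuotientGroup.mk' Y b)).2
  have hθ1 : ∀ b, θ b = 1 ↔ b ∈ Y := by
    intro b
    show ((iso (QuotientGroup.mk' Y b) : Y) : B) = 1 ↔ _
    rw [OneMemClass.coe_eq_one, MulEquiv.map_eq_one_iff]
    exact QuotientGroup.eq_one_iff b
  have hθθ : ∀ b, θ (θ b) = 1 := fun b => (hθ1 _).mpr (hθmem b)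
  let φ : B →* B :=
    { toFun := fun b => b * θ b
      map_one' := by rw [map_one, one_mul]
      map_mul' := fun a b => by
        rw [map_mul, mul_assoc, mul_assoc, ← mul_assoc b, ← mul_assoc (θ a), hcomm (θ a) b] }
  let ψ : B →* B :=
    { toFun := fun b => b * (θ b)⁻¹
      map_one' := by rw [map_one, inv_one, one_mul]
      map_mul' := fun a b => by
        rw [map_mul, mul_inv_rev]
        calc a * b * ((θ b)⁻¹ * (θ a)⁻¹) = a * ((b * (θ b)⁻¹) * (θ a)⁻¹) := by group
          _ = a * ((θ a)⁻¹ * (b * (θ b)⁻¹)) := by rw [hcomm (b * (θ b)⁻¹)]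
          _ = a * (θ a)⁻¹ * (b * (θ b)⁻¹) := by group }
  have hφ : ∀ b, φ b = b * θ b := fun b => rfl
  have hψ : ∀ b, ψ b = b * (θ b)⁻¹ := fun b => rfl
  have h1 : ψ.comp φ = MonoidHom.id B := by
    ext b
    show ψ (φ b) = b
    rw [hφ, hψ, map_mul, hθθ, mul_one, mul_inv_cancel_right]
  have h2 : φ.comp ψ = MonoidHom.id B := by
    ext b
    show φ (ψ b) = b
    rw [hψ, hφ, map_mul, map_inv, hθθ, inv_one, mul_one, inv_mul_cancel_right]
  let Φ : MulAut B := MonoidHom.toMulEquiv φ ψ h1 h2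
  have hΦ : ∀ b, Φ b = b * θ b := fun b => rfl
  have hpow : ∀ (k : ℕ) (b : B), (Φ ^ k) b = b * (θ b) ^ k := by
    intro k
    induction k with
    | zero => intro b; rw [pow_zero, pow_zero, mul_one]; rfl
    | succ k ih =>
      intro b
      rw [pow_succ', MulAut.mul_apply, ih, hΦ, map_mul, map_pow, hθθ, one_pow, mul_one, pow_succ,
        mul_assoc]
  have hθz : θ zB ≠ 1 := fun h => hz ((hθ1 zB).mp h)
  refine ⟨Φ, ?_, ?_, ?_⟩
  · apply orderOf_eq_prime
    · ext b
      rw [hpow, hB, mul_one]; rfl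
    · intro h
      have := hΦ zB
      rw [h] at this
      apply hθz
      have h3 : zB = zB * θ zB := this
      exact (mul_eq_left.mp h3.symm)
  · rw [hΦ, (hθ1 yB).mpr (Subgroup.mem_zpowers yB), mul_one]
  · obtain ⟨e, he⟩ := exists_zp_of_mem_zpowers (hB yB) (hθmem zB)
    refine ⟨e, ?_, by rw [hΦ, he]⟩
    rintro rfl
    rw [zp_zero] at he
    exact hθz he

end Cfsg.Agent.Lib.Helper8.XSP
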