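import Mathlib
import Cfsg.Agent.Lib.Helper8.XSPh
import Cfsg.Agent.Lib.Helper8.XSPi

set_option autoImplicit false
set_option linter.unusedSectionVars false

/-! Subgroups of order `p²` of an extraspecial Sylow subgroup of order `p³`, and the radical
property in the two situations of interest. -/

namespace Cfsg.Agent.Lib.Helper8.XSP

open scoped commutatorElement
open Cfsg.Agent.Lib.Helper1

variable {G : Type*} [Group G] [Finite G] {p : ℕ} [hp : Fact p.Prime] (P : Sylow p G)

theorem exists_z (hX : Cfsg.IsExtraspecial p ↥P) (hexpT : ∀ a : ↥P, a ^ p = 1) :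
    ∃ (z : G) (hzP : z ∈ P), z ≠ 1 ∧ Subgroup.center ↥P = Subgroup.zpowers ⟨z, hzP⟩ := by
  obtain ⟨zT, -, hz1, hzz⟩ := exists_center_gen hX hexpT
  exact ⟨zT.1, zT.2, fun h => hz1 (Subtype.ext h), hzz⟩

section withz

variable (z : G) (hzP : z ∈ P) (hzc : Subgroup.center ↥P = Subgroup.zpowers ⟨z, hzP⟩)

include hzc in
theorem z_central (x : G) (hx : x ∈ P) : x * z = z * x := by
  have h : (⟨z, hzP⟩ : ↥P) ∈ Subgroup.center ↥P := by rw [hzc]; exact Subgroup.mem_zpowers _
  exact congrArg Subtype.val (Subgroup.mem_center_iff.mp h ⟨x, hx⟩)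

include hzc in
theorem mem_zpowers_of_central (a : G) (ha : a ∈ P) (hc : ∀ x ∈ P, x * a = a * x) :
    a ∈ Subgroup.zpowers z := by
  have h : (⟨a, ha⟩ : ↥P) ∈ Subgroup.center ↥P := by
    rw [Subgroup.mem_center_iff]
    intro x
    exact Subtype.ext (hc x x.2)
  rw [hzc] at h
  obtain ⟨k, hk⟩ := Subgroup.mem_zpowers_iff.mp h
  rw [Subgroup.mem_zpowers_iff]
  refine ⟨k, ?_⟩
  have := congrArg Subtype.val hk
  simpa using this

omit [Finite G] in
theorem card_zpowers_z (hz1 : z ≠ 1) (hzp : z ^ p = 1) : Nat.card (Subgroup.zpowers z) = p := by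
  rw [Nat.card_zpowers, orderOf_eq_prime hzp hz1]

theorem maxcard (hcard : Nat.card P = p ^ 3) (A K : Subgroup G) (hAK : A ≤ K)
    (hKP : K ≤ (P : Subgroup G)) (hA : Nat.card A = p ^ 2) (hne : A ≠ K) :
    K = (P : Subgroup G) := by
  have h1 : Nat.card A ∣ Nat.card K := Subgroup.card_dvd_of_le hAK
  have h2 : Nat.card K ∣ Nat.card (P : Subgroup G) := Subgroup.card_dvd_of_le hKP
  have hcard' : Nat.card (P : Subgroup G) = p ^ 3 := hcard
  rw [hcard'] at h2
  obtain ⟨j, hj, hKj⟩ := (Nat.dvd_prime_pow hp.out).mp h2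
  rw [hA, hKj] at h1
  have hj2 : 2 ≤ j := (Nat.pow_dvd_pow_iff_le_right hp.out.one_lt).mp h1
  have hj3 : j ≠ 2 := by
    rintro rfl
    apply hne
    exact Subgroup.eq_of_le_of_card_ge hAK (by rw [hA, hKj])
  have : j = 3 := by omega
  subst this
  exact Subgroup.eq_of_le_of_card_ge hKP (by rw [hcard', hKj])

include hzc in
/-- the centraliser in `P` of a noncentral element of a subgroup `A` of order `p²` is `A` -/
theorem cent_in (hcard : Nat.card P = p ^ 3) (A : Subgroup G) (hAP : A ≤ (P : Subgroup G))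
    (hA : Nat.card A = p ^ 2) (y : G) (hyA : y ∈ A) (hyz : y ∉ Subgroup.zpowers z) (a : G)
    (haP : a ∈ P) (hay : a * y = y * a) : a ∈ A := by
  by_contra haA
  have hcommA : ∀ u v : ↥A, u * v = v * u := IsPGroup.commutative_of_card_eq_prime_sq hA
  let K : Subgroup G := (P : Subgroup G) ⊓ Subgroup.centralizer {y}
  have hAK : A ≤ K := by
    intro u hu
    refine Subgroup.mem_inf.mpr ⟨hAP hu, Subgroup.mem_centralizer_iff.mpr ?_⟩
    intro h hh
    rw [Set.mem_singleton_iff] at hh
    subst hh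
    exact congrArg Subtype.val (hcommA ⟨h, hyA⟩ ⟨u, hu⟩)
  have haK : a ∈ K := by
    refine Subgroup.mem_inf.mpr ⟨haP, Subgroup.mem_centralizer_iff.mpr ?_⟩
    intro h hh
    rw [Set.mem_singleton_iff] at hh
    subst hh
    exact hay.symm
  have hne : A ≠ K := fun h => haA (h ▸ haK)
  have hKP := maxcard P hcard A K hAK inf_le_left hA hne
  apply hyz
  apply mem_zpowers_of_central P z hzP hzc y (hAP hyA)
  intro x hx
  have hxK : x ∈ K := by rw [hKP]; exact hx
  have := Subgroup.mem_centralizer_iff.mp (Subgroup.mem_inf.mp hxK).2 y (Set.mem_singleton y)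
  exact this.symm

include hzc in
theorem z_mem (hcard : Nat.card P = p ^ 3) (hz1 : z ≠ 1) (hzp : z ^ p = 1) (A : Subgroup G)
    (hAP : A ≤ (P : Subgroup G)) (hA : Nat.card A = p ^ 2) : z ∈ A := by
  by_contra hzA
  have hcommA : ∀ u v : ↥A, u * v = v * u := IsPGroup.commutative_of_card_eq_prime_sq hA
  -- every element of `A` is central
  have hall : A ≤ Subgroup.zpowers z := by
    intro a ha
    let K : Subgroup G := (P : Subgroup G) ⊓ Subgroup.centralizer {a}
    have hAK : A ≤ K := by
      intro u hu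
      refine Subgroup.mem_inf.mpr ⟨hAP hu, Subgroup.mem_centralizer_iff.mpr ?_⟩
      intro h hh
      rw [Set.mem_singleton_iff] at hh
      subst hh
      exact congrArg Subtype.val (hcommA ⟨h, ha⟩ ⟨u, hu⟩)
    have hzK : z ∈ K := by
      refine Subgroup.mem_inf.mpr ⟨hzP, Subgroup.mem_centralizer_iff.mpr ?_⟩
      intro h hh
      rw [Set.mem_singleton_iff] at hh
      subst hh
      exact z_central P z hzP hzc h (hAP ha)
    have hne : A ≠ K := fun h => hzA (h ▸ hzK)
    have hKP := maxcard P hcard A K hAK inf_le_left hA hne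
    apply mem_zpowers_of_central P z hzP hzc a (hAP ha)
    intro x hx
    have hxK : x ∈ K := by rw [hKP]; exact hx
    have := Subgroup.mem_centralizer_iff.mp (Subgroup.mem_inf.mp hxK).2 a (Set.mem_singleton a)
    exact this.symm
  have h1 := Subgroup.card_le_of_le hall
  rw [hA, card_zpowers_z z hz1 hzp] at h1
  have : p < p ^ 2 := by
    have := hp.out.one_lt
    nlinarith
  omega

omit [Finite G] in
theorem exists_not_mem_zpowers (hz1 : z ≠ 1) (hzp : z ^ p = 1) (A : Subgroup G) [Finite A]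
    (hA : Nat.card A = p ^ 2) : ∃ y ∈ A, y ∉ Subgroup.zpowers z := by
  by_contra hcon
  push Not at hcon
  have hall : A ≤ Subgroup.zpowers z := hcon
  have : Finite (Subgroup.zpowers z) := by
    apply Nat.finite_of_card_ne_zero
    rw [card_zpowers_z z hz1 hzp]; exact hp.out.ne_zero
  have h1 := Subgroup.card_le_of_le hall
  rw [hA, card_zpowers_z z hz1 hzp] at h1
  have : p < p ^ 2 := by
    have := hp.out.one_lt
    nlinarith
  omega

end withz

end Cfsg.Agent.Lib.Helper8.XSP
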