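import Mathlib
import Cfsg.Agent.Lib.Helper8.XSPj

set_option autoImplicit false
set_option linter.unusedSectionVars false

/-! The radical property from the two hypotheses, and the arithmetic of primitive roots. -/

namespace Cfsg.Agent.Lib.Helper8.XSP

open scoped commutatorElement
open Cfsg.Agent.Lib.Helper1

section sl

variable {G : Type*} [Group G] {p : ℕ} [hp : Fact p.Prime]

theorem not_mem_zpowers_swap {z y : G} (hzp : z ^ p = 1) (hyp : y ^ p = 1) (hz1 : z ≠ 1)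
    (hyz : y ∉ Subgroup.zpowers z) : z ∉ Subgroup.zpowers y := by
  intro h
  obtain ⟨e, he⟩ := exists_zp_of_mem_zpowers hyp h
  have he0 : e ≠ 0 := by
    rintro rfl
    rw [zp_zero] at he
    exact hz1 he
  apply hyz
  have : y = zp z e⁻¹ := by rw [he, zp_zp_inv hyp he0]
  rw [this]
  exact zp_mem (Subgroup.mem_zpowers z) _

theorem rad_of_sl (A : Subgroup G) [Finite A] (hA : Nat.card A = p ^ 2)
    (hAexp : ∀ a ∈ A, a ^ p = 1) (z y : G) (hzA : z ∈ A) (hyA : y ∈ A) (hy1 : y ≠ 1)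
    (hzy : z ∉ Subgroup.zpowers y)
    (hSL : ∀ φ : MulAut ↥A, orderOf φ = p → ∃ g : G, ∀ a : ↥A, (φ a : G) = g * (a : G) * g⁻¹)
    (s : ZMod p) : ∃ g : G, g * z * g⁻¹ = z * zp y s ∧ g * y * g⁻¹ = y := by
  have hB : ∀ b : ↥A, b ^ p = 1 := fun b => Subtype.ext (by
    rw [Subgroup.coe_pow]; exact hAexp b b.2)
  have hyp : y ^ p = 1 := hAexp y hyA
  let zB : ↥A := ⟨z, hzA⟩
  let yB : ↥A := ⟨y, hyA⟩
  have hyB1 : yB ≠ 1 := fun h => hy1 (congrArg Subtype.val h)
  have hz' : zB ∉ Subgroup.zpowers yB := by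
    intro h
    obtain ⟨k, hk⟩ := Subgroup.mem_zpowers_iff.mp h
    apply hzy
    rw [Subgroup.mem_zpowers_iff]
    refine ⟨k, ?_⟩
    have := congrArg Subtype.val hk
    simpa using this
  obtain ⟨φ, hord, hφy, e, he0, hφz⟩ := shear hA hB zB yB hyB1 hz'
  obtain ⟨g0, hg0⟩ := hSL φ hord
  have hgy : g0 * y * g0⁻¹ = y := by
    have := hg0 yB
    rw [hφy] at this
    exact this.symm
  have hgz : g0 * z * g0⁻¹ = z * zp y e := by
    have := hg0 zB
    rw [hφz, Subgroup.coe_mul, coe_zp] at this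
    exact this.symm
  have hpow : ∀ k : ℕ, g0 ^ k * z * (g0 ^ k)⁻¹ = z * zp y ((k : ZMod p) * e) ∧
      g0 ^ k * y * (g0 ^ k)⁻¹ = y := by
    intro k
    induction k with
    | zero =>
      refine ⟨?_, by group⟩
      rw [Nat.cast_zero, zero_mul, zp_zero]; group
    | succ k ih =>
      obtain ⟨ih1, ih2⟩ := ih
      constructor
      · have e1 : g0 ^ (k + 1) * z * (g0 ^ (k + 1))⁻¹ =
            g0 * (g0 ^ k * z * (g0 ^ k)⁻¹) * g0⁻¹ := by
          rw [pow_succ']; group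
        rw [e1, ih1]
        have e2 : g0 * (z * zp y ((k : ZMod p) * e)) * g0⁻¹ =
            (g0 * z * g0⁻¹) * (g0 * zp y ((k : ZMod p) * e) * g0⁻¹) := by group
        rw [e2, hgz, zp_conj, hgy, mul_assoc, ← zp_add hyp]
        congr 2
        push_cast
        ring
      · have e1 : g0 ^ (k + 1) * y * (g0 ^ (k + 1))⁻¹ =
            g0 * (g0 ^ k * y * (g0 ^ k)⁻¹) * g0⁻¹ := by
          rw [pow_succ']; group
        rw [e1, ih2, hgy]
  refine ⟨g0 ^ (s * e⁻¹).val, ?_, (hpow _).2⟩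
  rw [(hpow _).1, ZMod.natCast_zmod_val, mul_assoc, inv_mul_cancel₀ he0, mul_one]

end sl

section arith

variable {p : ℕ} [hp : Fact p.Prime]

theorem exists_prim_root : ∃ l : (ZMod p)ˣ, orderOf l = p - 1 := by
  obtain ⟨g, hg⟩ := IsCyclic.exists_generator (α := (ZMod p)ˣ)
  refine ⟨g, ?_⟩
  rw [orderOf_eq_card_of_forall_mem_zpowers hg, Nat.card_eq_fintype_card, ZMod.card_units]

theorem order_cube (l : (ZMod p)ˣ) (hl : orderOf l = p - 1) :
    orderOf (l ^ 3) * Nat.gcd (p - 1) 3 = p - 1 := by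
  rw [orderOf_pow' l (by norm_num), hl]
  exact Nat.div_mul_cancel (Nat.gcd_dvd_left _ _)

theorem six_le_order (l : (ZMod p)ˣ) (hl : orderOf l = p - 1) (h17 : 17 ≤ p) :
    6 ≤ orderOf (l ^ 3) := by
  have h1 := order_cube l hl
  have h2 : Nat.gcd (p - 1) 3 ≤ 3 := Nat.gcd_le_right _ (by norm_num)
  by_contra hcon
  push Not at hcon
  have h3 : orderOf (l ^ 3) * Nat.gcd (p - 1) 3 ≤ 5 * 3 :=
    Nat.mul_le_mul (by omega) h2
  omega

end arith

end Cfsg.Agent.Lib.Helper8.XSP
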