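import Mathlib
import Cfsg.Agent.Lib.Helper8.XSPk

set_option autoImplicit false
set_option linter.unusedSectionVars false

/-! The radical property when all nonidentity elements of the Sylow subgroup are conjugate. -/

namespace Cfsg.Agent.Lib.Helper8.XSP

open scoped commutatorElement
open Cfsg.Agent.Lib.Helper1

variable {G : Type*} [Group G] [Finite G] {p : ℕ} [hp : Fact p.Prime] (P : Sylow p G)

theorem rad_of_conj (hX : Cfsg.IsExtraspecial p ↥P) (hexpT : ∀ a : ↥P, a ^ p = 1)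
    (z : G) (hzP : z ∈ P) (hzc : Subgroup.center ↥P = Subgroup.zpowers ⟨z, hzP⟩) (hz1 : z ≠ 1)
    (hconj : ∀ x y : ↥P, x ≠ 1 → y ≠ 1 → ∃ g : G, g * (x : G) * g⁻¹ = (y : G))
    (y : G) (hyP : y ∈ P) (hyz : y ∉ Subgroup.zpowers z) (s : ZMod p) :
    ∃ g : G, g * z * g⁻¹ = z * zp y s ∧ g * y * g⁻¹ = y := by
  have hzp : z ^ p = 1 := by
    have := congrArg Subtype.val (hexpT ⟨z, hzP⟩)
    simpa using this
  have hyp : y ^ p = 1 := by
    have := congrArg Subtype.val (hexpT ⟨y, hyP⟩)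
    simpa using this
  have hy1 : y ≠ 1 := fun h => hyz (h ▸ one_mem _)
  have hzy : z ∉ Subgroup.zpowers y := not_mem_zpowers_swap hzp hyp hz1 hyz
  obtain ⟨g0, hg0⟩ := hconj ⟨z, hzP⟩ ⟨y, hyP⟩ (fun h => hz1 (congrArg Subtype.val h))
    (fun h => hy1 (congrArg Subtype.val h))
  have hg0' : g0 * z * g0⁻¹ = y := hg0
  let C : Subgroup G := Subgroup.centralizer {y}
  have hgC : ∀ x ∈ P, g0 * x * g0⁻¹ ∈ C := by
    intro x hx
    rw [Subgroup.mem_centralizer_iff]
    intro h hh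
    rw [Set.mem_singleton_iff] at hh
    subst hh
    have hxz := z_central P z hzP hzc x hx
    rw [← hg0']
    calc g0 * z * g0⁻¹ * (g0 * x * g0⁻¹) = g0 * (z * x) * g0⁻¹ := by group
      _ = g0 * (x * z) * g0⁻¹ := by rw [hxz]
      _ = g0 * x * g0⁻¹ * (g0 * z * g0⁻¹) := by group
  have hQ : IsPGroup p (Subgroup.zpowers z) :=
    IsPGroup.of_card (n := 1) (by rw [card_zpowers_z z hz1 hzp, pow_one])
  have hzC : z ∈ C := by
    rw [Subgroup.mem_centralizer_iff]
    intro h hh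
    rw [Set.mem_singleton_iff] at hh
    subst hh
    exact z_central P z hzP hzc h hyP
  have hQC : Subgroup.zpowers z ≤ C := by
    rw [Subgroup.zpowers_le]; exact hzC
  obtain ⟨c, hcC, hcQ⟩ := sylow_sub P C g0 hgC (Subgroup.zpowers z) hQ hQC
  obtain ⟨x', hx'P, hx'⟩ := hcQ z (Subgroup.mem_zpowers z)
  set h := c * g0 with hh
  have hcy : y * c = c * y := Subgroup.mem_centralizer_iff.mp hcC y (Set.mem_singleton y)
  have hhz : h * z * h⁻¹ = y := by
    calc h * z * h⁻¹ = c * (g0 * z * g0⁻¹) * c⁻¹ := by rw [hh]; group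
      _ = c * y * c⁻¹ := by rw [hg0']
      _ = y * c * c⁻¹ := by rw [hcy]
      _ = y := by group
  have hinvz : h⁻¹ * z * h = x' := by
    calc h⁻¹ * z * h = h⁻¹ * (h * x' * h⁻¹) * h := by rw [← hx']
      _ = x' := by group
  have hinvy : h⁻¹ * y * h = z := by
    rw [← hhz]; group
  have hx'z : x' ∉ Subgroup.zpowers z := by
    intro hmem
    obtain ⟨e, he⟩ := exists_zp_of_mem_zpowers hzp hmem
    apply hzy
    have : z = zp y e := by
      calc z = h * x' * h⁻¹ := hx'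
        _ = h * zp z e * h⁻¹ := by rw [he]
        _ = zp y e := by rw [zp_conj, hhz]
    rw [this]
    exact zp_mem (Subgroup.mem_zpowers y) _
  have hz'c : (⟨x', hx'P⟩ : ↥P) ∉ Subgroup.center ↥P := by
    intro hmem
    rw [hzc] at hmem
    obtain ⟨k, hk⟩ := Subgroup.mem_zpowers_iff.mp hmem
    apply hx'z
    rw [Subgroup.mem_zpowers_iff]
    refine ⟨k, ?_⟩
    have := congrArg Subtype.val hk
    simpa using this
  obtain ⟨xs, hxs⟩ := exists_comm_eq hX hexpT ⟨z, hzP⟩ ⟨x', hx'P⟩ hzc hz'c s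
  have hxsG : (xs : G) * x' * (xs : G)⁻¹ = zp z s * x' := by
    have h1 : xs * ⟨x', hx'P⟩ * xs⁻¹ = zp (⟨z, hzP⟩ : ↥P) s * ⟨x', hx'P⟩ := by
      rw [← hxs, commutatorElement_def]; group
    have h2 := congrArg Subtype.val h1
    rw [Subgroup.coe_mul, Subgroup.coe_mul, Subgroup.coe_mul, Subgroup.coe_inv, coe_zp] at h2
    exact h2
  have hxsz : (xs : G) * z * (xs : G)⁻¹ = z := by
    have := z_central P z hzP hzc xs xs.2
    rw [this]; group
  have hzyc : Commute z y := (z_central P z hzP hzc y hyP).symm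
  refine ⟨h * xs * h⁻¹, ?_, ?_⟩
  · calc h * xs * h⁻¹ * z * (h * xs * h⁻¹)⁻¹
        = h * (xs * (h⁻¹ * z * h) * (xs : G)⁻¹) * h⁻¹ := by group
      _ = h * (zp z s * x') * h⁻¹ := by rw [hinvz, hxsG]
      _ = (h * zp z s * h⁻¹) * (h * x' * h⁻¹) := by group
      _ = zp y s * z := by rw [zp_conj, hhz, ← hx']
      _ = z * zp y s := ((hzyc.pow_right _).eq).symm
  · calc h * xs * h⁻¹ * y * (h * xs * h⁻¹)⁻¹
        = h * (xs * (h⁻¹ * y * h) * (xs : G)⁻¹) * h⁻¹ := by group
      _ = h * z * h⁻¹ := by rw [hinvy, hxsz]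
      _ = y := hhz

/-- a family of `p` pairwise non-commuting elements -/
theorem family_noncomm {T : Type*} [Group T] (hcc : CommCentral T) (hexp : ∀ a : T, a ^ p = 1)
    (x0 y0 : T) (hd : ⁅x0, y0⁆ ≠ 1) (t t' : ZMod p)
    (h : (x0 * zp y0 t) * (x0 * zp y0 t') = (x0 * zp y0 t') * (x0 * zp y0 t)) : t = t' := by
  rw [← commutatorElement_eq_one_iff_mul_comm, hcc.comm_mul_left, hcc.comm_mul_right,
    hcc.comm_mul_right, commutatorElement_self, one_mul, comm_self_zp, mul_one,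
    comm_zp_right hcc, comm_zp_left hcc, comm_swap_inv x0 y0] at h
  have h2 : zp ⁅x0, y0⁆⁻¹ t = (zp ⁅x0, y0⁆ t)⁻¹ := by rw [zp_def, zp_def, inv_pow]
  rw [h2, mul_inv_eq_one] at h
  exact (zp_inj (hexp _) hd h).symm

/-- a family of `p` pairwise non-commuting elements of an extraspecial group of order `p³` -/
theorem exists_family {T : Type*} [Group T] [Finite T] (hX : Cfsg.IsExtraspecial p T)
    (hcard : Nat.card T = p ^ 3) (hexp : ∀ a : T, a ^ p = 1) :
    ∃ yT : ZMod p → T, ∀ t t', yT t * yT t' = yT t' * yT t → t = t' := by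
  have hcc := special_commCentral hX.1
  have hp1 : 1 < p := hp.out.one_lt
  obtain ⟨x0, y0, hd⟩ : ∃ x0 y0 : T, ⁅x0, y0⁆ ≠ 1 := by
    by_contra hcon
    push Not at hcon
    have h1 : Subgroup.center T = ⊤ := by
      rw [eq_top_iff]
      intro a _
      rw [Subgroup.mem_center_iff]
      intro g
      exact commutatorElement_eq_one_iff_mul_comm.mp (hcon g a)
    have h2 := hX.2
    rw [h1, Subgroup.card_top, hcard] at h2
    have : p ^ 3 = p * p * p := by ring
    nlinarith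
  exact ⟨fun t => x0 * zp y0 t, fun t t' h => family_noncomm hcc hexp x0 y0 hd t t' h⟩

end Cfsg.Agent.Lib.Helper8.XSP
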