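import Cfsg.Agent.Lib.Helper8.ZJIZ2

/-! S2756, piece H + top assembly (helper8): from `GoodStmt` (step 5) and `C_G(P) ≤ P` (step 4)
to `ZJ(T)` normal in `G`, by rerunning helper1's `ZJFamily.inf_normal_step`. -/

set_option autoImplicit false
open scoped Pointwise commutatorElement
universe u v

namespace Cfsg.Agent.Lib.Helper8.ZJI

open Cfsg.Agent.Lib.Helper1 Cfsg.Agent.Lib.Helper1.ZJ Cfsg.Agent.Lib.Helper1.GlaubermanRepl

variable {G : Type u} [Group G] [Finite G] {q : ℕ} [hq : Fact q.Prime]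

/-- the statement of step 5 (`good`) -/
def GoodStmt (q : ℕ) [Fact q.Prime] (G : Type u) [Group G] : Prop :=
  ∀ (T : Sylow q G) (B : Subgroup G) [B.Normal], IsPGroup q B → ∀ a : G, a ∈ T →
    ⁅⁅B, Subgroup.zpowers a⁆, Subgroup.zpowers a⁆ = ⊥ → a ∉ KK q B →
    ∀ A0 : Subgroup G, A0 ≤ T → (∀ y ∈ A0, y * a = a * y) →
    ∃ Ts : Subgroup G, IsPGroup q Ts ∧ A0 ≤ Ts ∧ (ZJ Ts).Normal

theorem ZJ_le_of_good (T : Sylow q G) {A Ts : Subgroup G} (hA : A ∈ AA (T : Subgroup G))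
    (hTs : IsPGroup q Ts) (hATs : A ≤ Ts) (hn : (ZJ Ts).Normal) :
    ZJ (T : Subgroup G) ≤ ZJ Ts ∧ A ∈ AA Ts := by
  obtain ⟨T1, hT1⟩ := hTs.exists_le_sylow
  obtain ⟨g, rfl⟩ := MulAction.exists_smul_eq G T T1
  have hmap : ((g • T : Sylow q G) : Subgroup G) =
      (T : Subgroup G).map (MulAut.conj g).toMonoidHom := by
    rw [Sylow.coe_subgroup_smul, Subgroup.pointwise_smul_def]
    rfl
  have hinj : Set.InjOn (MulAut.conj g).toMonoidHom ((T : Subgroup G) : Set G) :=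
    (MulAut.conj g).injective.injOn
  have hA1 : A ∈ AA ((g • T : Sylow q G) : Subgroup G) := by
    have hAg : A.map (MulAut.conj g).toMonoidHom ∈ AA ((g • T : Sylow q G) : Subgroup G) := by
      rw [hmap]
      exact (AA_map_injOn _ _ hinj _).mpr ⟨A, hA, rfl⟩
    refine ⟨hATs.trans hT1, hA.2.1, ?_⟩
    intro B hB hBc
    have := hAg.2.2 B hB hBc
    rw [card_map_of_injOn _ A (hinj.mono hA.1)] at this
    exact this
  obtain ⟨h1, h2⟩ := ZJ_le_ZJ_of_mem hT1 hA1 hATs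
  refine ⟨?_, h2⟩
  intro z hz
  have hz1 : g * z * g⁻¹ ∈ ZJ ((g • T : Sylow q G) : Subgroup G) := by
    rw [hmap, ZJ_map_injOn _ _ hinj]
    exact ⟨z, hz, by simp [MulAut.conj_apply]⟩
  have hz2 := hn.conj_mem _ (h1 hz1) g⁻¹
  have e : g⁻¹ * (g * z * g⁻¹) * g⁻¹⁻¹ = z := by group
  rw [e] at hz2
  exact hz2

theorem KK_pCore_le (hcent : Subgroup.centralizer (Cfsg.pCore q G : Set G) ≤ Cfsg.pCore q G) :
    haveI := pCore_normal (G := G) q
    KK q (Cfsg.pCore q G) ≤ Cfsg.pCore q G := by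
  haveI := pCore_normal (G := G) q
  apply le_pCore (KK_normal q _)
  intro k
  have hk : QuotientGroup.mk' (Subgroup.centralizer (Cfsg.pCore q G : Set G)) (k : G) ∈
      Cfsg.pCore q (G ⧸ Subgroup.centralizer (Cfsg.pCore q G : Set G)) := k.2
  obtain ⟨n, hn⟩ := (pCore_isPGroup q) ⟨_, hk⟩
  have h1 : (k : G) ^ q ^ n ∈ Subgroup.centralizer (Cfsg.pCore q G : Set G) := by
    have := congrArg Subtype.val hn
    simp only [Subgroup.coe_pow, Subgroup.coe_one] at this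
    rw [← map_pow] at this
    exact (QuotientGroup.eq_one_iff _).mp this
  obtain ⟨m, hm⟩ := (pCore_isPGroup (G := G) q) ⟨_, hcent h1⟩
  refine ⟨n + m, ?_⟩
  apply Subtype.ext
  have := congrArg Subtype.val hm
  simp only [Subgroup.coe_pow, Subgroup.coe_one] at this ⊢
  rw [pow_add, pow_mul]
  exact this

theorem quad_of_normalizes {B A : Subgroup G} (hAc : ∀ x ∈ A, ∀ y ∈ A, x * y = y * x)
    (hBA : B ≤ Subgroup.normalizer (A : Set G)) {a : G} (ha : a ∈ A) :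
    ⁅⁅B, Subgroup.zpowers a⁆, Subgroup.zpowers a⁆ = ⊥ := by
  rw [eq_bot_iff, Subgroup.commutator_le]
  intro x hx y hy
  have hzA : Subgroup.zpowers a ≤ A := by
    rw [Subgroup.zpowers_le]; exact ha
  have h1 : ⁅B, Subgroup.zpowers a⁆ ≤ A := by
    rw [Subgroup.commutator_le]
    intro b hb t ht
    have h2 := (Subgroup.mem_normalizer_iff.mp (hBA hb) t).mp (hzA ht)
    rw [commutatorElement_def]
    exact A.mul_mem h2 (A.inv_mem (hzA ht))
  rw [Subgroup.mem_bot, commutatorElement_eq_one_iff_commute]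
  exact hAc x (h1 hx) y (hzA hy)

theorem ZJ_le_pCore (hgood : GoodStmt q G)
    (hcent : Subgroup.centralizer (Cfsg.pCore q G : Set G) ≤ Cfsg.pCore q G) (T : Sylow q G) :
    ZJ (T : Subgroup G) ≤ Cfsg.pCore q G := by
  haveI := pCore_normal (G := G) q
  intro a haZ
  by_contra haP
  obtain ⟨A, hA⟩ := AA_nonempty (T : Subgroup G)
  have haA : a ∈ A := ZJ_le_of_mem hA haZ
  have hPT : Cfsg.pCore q G ≤ (T : Subgroup G) := pCore_le_sylow q T
  have hquad : ⁅⁅Cfsg.pCore q G, Subgroup.zpowers a⁆, Subgroup.zpowers a⁆ = ⊥ := by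
    apply quad_of_normalizes (ZJ_comm (T : Subgroup G)) _ haZ
    exact hPT.trans (Subgroup.le_normalizer.trans (normalizer_le_normalizer_ZJ _))
  have haK : a ∉ KK q (Cfsg.pCore q G) := fun h => haP (KK_pCore_le hcent h)
  obtain ⟨Ts, hTs, hATs, hn⟩ := hgood T (Cfsg.pCore q G) (pCore_isPGroup q) a
    (ZJ_le _ haZ) hquad haK A hA.1 (fun y hy => hA.2.1 y hy a haA)
  obtain ⟨h1, _⟩ := ZJ_le_of_good T hA hTs hATs hn
  have h2 : ZJ Ts ≤ Cfsg.pCore q G := le_pCore hn (hTs.to_le (ZJ_le Ts))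
  exact haP (h2 (h1 haZ))

theorem hAL (hgood : GoodStmt q G) (T : Sylow q G) (B : Subgroup G) [B.Normal]
    (hB : IsPGroup q B)
    (hcl : Subgroup.normalClosure ((ZJ (T : Subgroup G) ⊓ B : Subgroup G) : Set G) = B)
    (A : Subgroup G) (hA : A ∈ AA (T : Subgroup G))
    (hBA : B ≤ Subgroup.normalizer (A : Set G)) : A ≤ KK q B := by
  by_contra hnot
  obtain ⟨a, haA, haK⟩ := SetLike.not_le_iff_exists.mp hnot
  have hquad := quad_of_normalizes hA.2.1 hBA haA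
  obtain ⟨Ts, hTs, hATs, hn⟩ := hgood T B hB a (hA.1 haA) hquad haK A hA.1
    (fun y hy => hA.2.1 y hy a haA)
  obtain ⟨h1, h2⟩ := ZJ_le_of_good T hA hTs hATs hn
  have hBZ : B ≤ ZJ Ts := by
    rw [← hcl]
    exact Subgroup.normalClosure_le_normal (inf_le_left.trans h1)
  apply haK
  apply centralizer_le_KK q B
  rw [Subgroup.mem_centralizer_iff]
  intro b hb
  exact commute_of_mem_ZJ_of_mem_AA h2 (hBZ hb) haA

/-- helper1's `ZJFamily.inf_normal_step` with the stability hypothesis replaced by `hAL`. -/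
theorem inf_normal_step' {p : ℕ} {F : Subgroup G → Set (Subgroup G)} [hp : Fact p.Prime]
    (fam : ZJFamily p F) (hp2 : p ≠ 2) (S : Sylow p G)
    (B : Subgroup G) [hBn : B.Normal] (hB : IsPGroup p B)
    (hAL : Subgroup.normalClosure ((sInf (F (S : Subgroup G)) ⊓ B : Subgroup G) : Set G) = B →
      ∀ A ∈ F (S : Subgroup G), B ≤ Subgroup.normalizer (A : Set G) → A ≤ KK p B)
    (IH : ∀ B' : Subgroup G, B'.Normal → B' < B → (sInf (F (S : Subgroup G)) ⊓ B').Normal) :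
    (sInf (F (S : Subgroup G)) ⊓ B).Normal := by
  obtain ⟨P, hP⟩ : ∃ P : Subgroup G, P = ↑S := ⟨_, rfl⟩
  rw [← hP] at IH hAL ⊢
  obtain ⟨Z, hZ⟩ : ∃ Z, Z = sInf (F P) := ⟨_, rfl⟩
  rw [← hZ] at IH hAL ⊢
  have hPp : IsPGroup p P := hP ▸ S.2
  have hBP : B ≤ P := (le_pCore hBn hB).trans (hP ▸ pCore_le_sylow p S)
  have hZP : Z ≤ P := hZ ▸ fam.sInf_le_self P
  have hZc : ∀ x ∈ Z, ∀ y ∈ Z, x * y = y * x := hZ ▸ fam.sInf_comm P
  have hPZ : ∀ g ∈ P, ∀ x ∈ Z, g * x * g⁻¹ ∈ Z := by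
    intro g hg x hx
    rw [hZ] at hx ⊢
    exact fam.conj_mem_sInf (Subgroup.le_normalizer hg) hx
  by_cases hcl : Subgroup.normalClosure ((Z ⊓ B : Subgroup G) : Set G) = B
  swap
  · have hle : Subgroup.normalClosure ((Z ⊓ B : Subgroup G) : Set G) ≤ B :=
      Subgroup.normalClosure_le_normal inf_le_right
    have hlt : Subgroup.normalClosure ((Z ⊓ B : Subgroup G) : Set G) < B := lt_of_le_of_ne hle hcl
    have h1 := IH _ Subgroup.normalClosure_normal hlt
    have e : Z ⊓ Subgroup.normalClosure ((Z ⊓ B : Subgroup G) : Set G) = Z ⊓ B :=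
      le_antisymm (inf_le_inf_left _ hle) (le_inf inf_le_left Subgroup.subset_normalClosure)
    rw [← e]; exact h1
  by_cases hbot : B = ⊥
  · subst hbot; rw [inf_bot_eq]; infer_instance
  have hB'lt : ⁅B, B⁆ < B := commutator_lt_of_isPGroup hB hbot
  have hN : (Z ⊓ ⁅B, B⁆).Normal := IH _ (Subgroup.commutator_normal B B) hB'lt
  have h1 : ⁅Z ⊓ B, B⁆ ≤ Z ⊓ ⁅B, B⁆ := by
    apply le_inf _ (Subgroup.commutator_mono inf_le_right le_rfl)
    rw [Subgroup.commutator_le]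
    intro z hz b hb
    rw [commutatorElement_def, mul_assoc, mul_assoc]
    apply Z.mul_mem hz.1
    rw [← mul_assoc]
    exact hPZ b (hBP hb) _ (Z.inv_mem hz.1)
  have h2 : ⁅B, B⁆ ≤ Z ⊓ ⁅B, B⁆ := commutator_le_of_normalClosure hcl h1
  have h3 : ∀ A ∈ F P, ⁅B, B⁆ ≤ A := fun A hA => (h2.trans inf_le_left).trans (hZ ▸ sInf_le hA)
  obtain ⟨A₀, hA₀F, hBA₀⟩ := fam.exists_normalized hp2 hPp hBP h3
  obtain ⟨L, hL⟩ : ∃ L, L = (Cfsg.pCore p (G ⧸ Subgroup.centralizer (B : Set G))).comap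
      (QuotientGroup.mk' (Subgroup.centralizer (B : Set G))) := ⟨_, rfl⟩
  obtain ⟨R, hR⟩ : ∃ R, R = P ⊓ L := ⟨_, rfl⟩
  have hAL' : ∀ A ∈ F P, B ≤ Subgroup.normalizer (A : Set G) → A ≤ L := by
    intro A hA hBA
    rw [hL]
    exact hAL hcl A hA hBA
  have htop : Subgroup.normalizer (R : Set G) ⊔ Subgroup.centralizer (B : Set G) = ⊤ := by
    rw [hR, hP, hL]
    exact normalizer_inf_sup_eq_top S (Subgroup.centralizer (B : Set G))
  have hRP : R ≤ P := hR ▸ inf_le_left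
  have hA₀R : A₀ ≤ R := hR ▸ le_inf (fam.le hA₀F) (hAL' A₀ hA₀F hBA₀)
  have hFR := fam.mono hRP hA₀F hA₀R
  have hZR : Z ≤ sInf (F R) := le_sInf (fun A hA => hZ ▸ sInf_le ((hFR A).mp hA).1)
  have hZRn : (sInf (F R) ⊓ B).Normal := by
    rw [← Subgroup.normalizer_eq_top_iff, eq_top_iff, ← htop]
    apply sup_le
    · intro g hg
      apply mem_normalizer_of_conj_mem_of_finite
      intro x hx
      exact ⟨fam.conj_mem_sInf hg hx.1, hBn.conj_mem _ hx.2 g⟩
    · intro c hc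
      apply mem_normalizer_of_conj_mem_of_finite
      intro x hx
      have := Subgroup.mem_centralizer_iff.mp hc x hx.2
      rw [← this, mul_inv_cancel_right]
      exact hx
  have hBZR : B ≤ sInf (F R) := by
    have : Subgroup.normalClosure ((Z ⊓ B : Subgroup G) : Set G) ≤ sInf (F R) ⊓ B :=
      Subgroup.normalClosure_le_normal (inf_le_inf_right _ hZR)
    rw [hcl] at this; exact this.trans inf_le_left
  have hall : ∀ A ∈ F P, B ≤ A := by
    by_contra hne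
    push Not at hne
    obtain ⟨A₁, hA₁F, hA₁B⟩ := hne
    obtain ⟨A, hAmem, hmax⟩ := Set.exists_max_image {A | A ∈ F P ∧ ¬ B ≤ A}
      (fun A => Nat.card (A ⊓ B : Subgroup G)) (Set.toFinite _) ⟨A₁, hA₁F, hA₁B⟩
    by_cases hBN : B ≤ Subgroup.normalizer (A : Set G)
    · have hAR : A ≤ R := hR ▸ le_inf (fam.le hAmem.1) (hAL' A hAmem.1 hBN)
      have : A ∈ F R := (hFR A).mpr ⟨hAmem.1, hAR⟩
      exact hAmem.2 (hBZR.trans (sInf_le this))
    · obtain ⟨A', hA'F, hlt, hnB⟩ :=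
        fam.exists_replacement hp2 hPp hBP hAmem.1 (h3 A hAmem.1) hBN
      have h5 := hmax A' ⟨hA'F, hnB⟩
      have h6 := card_lt_card_of_lt hlt
      omega
  have : B ≤ Z := hZ ▸ le_sInf hall
  rw [inf_eq_right.mpr this]; exact hBn

theorem ZJ_inf_normal (hq2 : q ≠ 2) (hgood : GoodStmt q G) (T : Sylow q G) (B : Subgroup G)
    [hBn : B.Normal] (hB : IsPGroup q B) : (ZJ (T : Subgroup G) ⊓ B).Normal := by
  have fam := zjFamily_A (G := G) q
  induction' hn : Nat.card B using Nat.strong_induction_on with n ih generalizing B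
  have key := inf_normal_step' fam hq2 T B hB
    (fun hcl A hA hBA => hAL hgood T B hB (by rw [ZJ_eq]; exact hcl) A hA hBA)
    (fun B' hB'n hlt => by
      have := @ih (Nat.card B') (hn ▸ card_lt_card_of_lt hlt) B' hB'n (hB.to_le hlt.le) rfl
      rw [ZJ_eq] at this
      exact this)
  rw [ZJ_eq]
  exact key

theorem ZJ_normal (hq2 : q ≠ 2) (hgood : GoodStmt q G)
    (hcent : Subgroup.centralizer (Cfsg.pCore q G : Set G) ≤ Cfsg.pCore q G) (T : Sylow q G) :
    (ZJ (T : Subgroup G)).Normal := by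
  have hle := ZJ_le_pCore hgood hcent T
  have := ZJ_inf_normal hq2 hgood T (Cfsg.pCore q G) (hBn := pCore_normal (G := G) q) (pCore_isPGroup q)
  rw [inf_eq_left.mpr hle] at this
  exact this

end Cfsg.Agent.Lib.Helper8.ZJI
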