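import Cfsg.Agent.Lib.Helper8.ZJIH
import Cfsg.Agent.Lib.Helper2.ZJIC
import Cfsg.Agent.Lib.Helper2.ZJID
import Cfsg.Agent.Lib.Helper8.ZJIZ2
import Cfsg.Agent.Lib.Helper5.ZJIStep4
import Cfsg.Agent.Lib.Helper6.ZJIc
import Cfsg.Agent.Lib.Helper7.ZJI_SQ
import Cfsg.Agent.Lib.Helper9.ZJIB
import Cfsg.Agent.Lib.Helper9.ZJIG

/-! S2756 (helper8): final glue for THEOREM_q.  Assembles the pieces of helpers 1, 2, 5, 6, 7, 9. -/

set_option autoImplicit false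
open scoped Pointwise commutatorElement
universe u v

namespace Cfsg.Agent.Lib.Helper8.ZJI

open Cfsg.Agent.Lib.Helper1

variable {G : Type u} [Group G] [Finite G] {q : ℕ} [hq : Fact q.Prime]

theorem concl_of_normal (hinv : Inv q G) (T : Sylow q G) (hn : (ZJ (T : Subgroup G)).Normal) :
    Concl q T := by
  obtain ⟨x, s, hx1, ⟨k, hk⟩, hxs⟩ := hinv
  have hZ : IsPGroup q (Subgroup.zpowers x) :=
    IsPGroup.of_card (n := k) (by rw [Nat.card_zpowers, hk])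
  obtain ⟨T1, hT1⟩ := hZ.exists_le_sylow
  obtain ⟨g, rfl⟩ := MulAction.exists_smul_eq G T1 T
  have hmem : g * x * g⁻¹ ∈ ((g • T1 : Sylow q G) : Subgroup G) := by
    rw [Sylow.coe_subgroup_smul, Subgroup.pointwise_smul_def]
    exact ⟨x, hT1 (Subgroup.mem_zpowers x), rfl⟩
  have htop : Subgroup.normalizer ((ZJ ((g • T1 : Sylow q G) : Subgroup G) : Subgroup G) : Set G)
      = ⊤ := Subgroup.normalizer_eq_top_iff.mpr hn
  refine ⟨g * x * g⁻¹, hmem, ?_, g * s * g⁻¹, ?_, ?_⟩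
  · intro h1
    apply hx1
    have : x = g⁻¹ * (g * x * g⁻¹) * g := by group
    rw [this, h1]; group
  · rw [htop]; exact Subgroup.mem_top _
  · have : g * s * g⁻¹ * (g * x * g⁻¹) * (g * s * g⁻¹)⁻¹ = g * (s * x * s⁻¹) * g⁻¹ := by group
    rw [this, hxs]; group

omit [Finite G] in
theorem exists_inverted (Q : Subgroup G) {s : G}
    (hs : ∃ k : ℕ, orderOf s = 2 ^ k) (hn : ∀ y ∈ Q, s * y * s⁻¹ ∈ Q) {y₀ : G} (hy₀ : y₀ ∈ Q)
    (hne : s * y₀ * s⁻¹ ≠ y₀) :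
    ∃ s' ∈ Subgroup.zpowers s, ∃ y ∈ Q, y ≠ 1 ∧ s' * y * s'⁻¹ = y⁻¹ := by
  obtain ⟨k, hk⟩ := hs
  exact Cfsg.Agent.Lib.Helper7.ZJI.exists_inverted_of_two_elt Q (k := k)
    (by rw [← hk]; exact pow_orderOf_eq_one s) hn ⟨y₀, hy₀, hne⟩

theorem sq (hq2 : q ≠ 2) (B : Subgroup G) [B.Normal] (hB : IsPGroup q B)
    (hninv : ¬ Inv q (G ⧸ KK q B))
    (a : G) (hquad : ⁅⁅B, Subgroup.zpowers a⁆, Subgroup.zpowers a⁆ = ⊥) (ha : a ∉ KK q B) :
    ∃ t : G, (∃ k : ℕ, orderOf t = 2 ^ k) ∧ t ∉ KK q B ∧ t * a * t⁻¹ * a⁻¹ ∈ KK q B := by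
  have hq' : ∀ b ∈ B, ⁅⁅b, a⁆, a⁆ = 1 := by
    intro b hb
    have h1 : ⁅b, a⁆ ∈ ⁅B, Subgroup.zpowers a⁆ :=
      Subgroup.commutator_mem_commutator hb (Subgroup.mem_zpowers a)
    have h2 : ⁅⁅b, a⁆, a⁆ ∈ ⁅⁅B, Subgroup.zpowers a⁆, Subgroup.zpowers a⁆ :=
      Subgroup.commutator_mem_commutator h1 (Subgroup.mem_zpowers a)
    rw [hquad] at h2
    exact Subgroup.mem_bot.mp h2
  obtain ⟨t, ht, htK, hta⟩ := Cfsg.Agent.Lib.Helper7.ZJI.exists_two_elt_of_quadratic' hq2 B hB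
    (KK q B) rfl hninv a hq' ha
  exact ⟨t, ht, htK, by rw [commutatorElement_def] at hta; exact hta⟩

/-- step 4 from `MinCE` and `inverted_mem_pCore` -/
theorem centralizer_pCore_le_of (h : MinCE q G)
    (hmem : ∀ {x s : G}, (∃ k : ℕ, orderOf x = q ^ k) → s * x * s⁻¹ = x⁻¹ →
      x ∈ Cfsg.pCore q G) :
    Subgroup.centralizer (Cfsg.pCore q G : Set G) ≤ Cfsg.pCore q G := by
  obtain ⟨x, s, hx1, hxq, hxs⟩ := h.inv
  exact Cfsg.Agent.Lib.Helper5.ZJI.centralizer_pCore_le q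
    (Cfsg.Agent.Lib.Helper2.ZJI.MinCE_hIH h) (Cfsg.Agent.Lib.Helper2.ZJI.MinCE_hplus h)
    (fun N hN hc => by haveI := hN; exact Cfsg.Agent.Lib.Helper9.ZJI.core_prime_eq_bot h N hc)
    x s hx1 (hmem hxq hxs) hxs

/-- step 5 from `MinCE` and `not_inv_quot` -/
theorem good_of_minCE (h : MinCE q G)
    (hniq : ∀ (K : Subgroup G) [K.Normal], Cfsg.pCore q G ≤ K → ¬ Inv q (G ⧸ K)) :
    GoodStmt q G := by
  intro T B _ hB a haT hquad ha A0 hA0T hA0a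
  exact Cfsg.Agent.Lib.Helper9.ZJI.good_of
    (fun B _ hB hn a hq ha => sq h.odd B hB hn a hq ha)
    hniq
    (fun H' hHn hinv R0 hR0 hle => Cfsg.Agent.Lib.Helper2.ZJI.chain h H' hHn hinv R0 hR0 hle)
    (fun Q s hs hn y₀ hy₀ hne => exists_inverted Q hs hn hy₀ hne)
    h.odd T B hB a haT hquad ha A0 hA0T hA0a

theorem minCE_false_of (h : MinCE q G)
    (hniq : ∀ (K : Subgroup G) [K.Normal], Cfsg.pCore q G ≤ K → ¬ Inv q (G ⧸ K))
    (hmem : ∀ {x s : G}, (∃ k : ℕ, orderOf x = q ^ k) → s * x * s⁻¹ = x⁻¹ →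
      x ∈ Cfsg.pCore q G) : False := by
  obtain ⟨T⟩ : Nonempty (Sylow q G) := inferInstance
  exact h.dagger T (concl_of_normal h.inv T
    (ZJ_normal h.odd (good_of_minCE h hniq) (centralizer_pCore_le_of h hmem) T))

/-- no minimal counterexample to THEOREM_q -/
theorem minCE_false (h : MinCE q G) : False :=
  minCE_false_of h (fun K _ hK => Cfsg.Agent.Lib.Helper2.ZJI.not_inv_quot h K hK)
    (fun hx hinv => Cfsg.Agent.Lib.Helper2.ZJI.inverted_mem_pCore h hx hinv)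

theorem theorem_q_aux (hq2 : q ≠ 2) : ∀ n : ℕ, ∀ (G : Type u) [Group G] [Finite G],
    Nat.card G = n → Inv q G → ∀ T : Sylow q G, Concl q T := by
  intro n
  induction n using Nat.strong_induction_on with
  | _ n ih =>
    intro G _ _ hn hinv T
    by_contra hcon
    have hdag : ∀ T' : Sylow q G, ¬ Concl q T' := fun T' hT' => hcon (concl_conj T' T hT')
    exact minCE_false (G := G)
      ⟨hq2, fun H _ _ hlt hinvH T' => ih (Nat.card H) (hn ▸ hlt) H rfl hinvH T', hinv, hdag⟩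

/-- **THEOREM_q** : if some nontrivial `q`-element (`q` odd) of the finite group `G` is inverted,
then for every Sylow `q`-subgroup `T` some `y ∈ T`, `y ≠ 1`, is inverted inside `N_G(Z(J(T)))`. -/
theorem theorem_q (hq2 : q ≠ 2) (hinv : Inv q G) (T : Sylow q G) : Concl q T :=
  theorem_q_aux hq2 (Nat.card G) G rfl hinv T

end Cfsg.Agent.Lib.Helper8.ZJI
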