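import Cfsg.Agent.Lib.Helper8.ZJI0

/-! S2756, piece Z: basic facts on `ZJ` (helper8). -/

set_option autoImplicit false
open scoped Pointwise commutatorElement
universe u v

namespace Cfsg.Agent.Lib.Helper8.ZJI

open Cfsg.Agent.Lib.Helper1.ZJ

variable {G : Type u} [Group G] [Finite G]

theorem ZJ_le (X : Subgroup G) : ZJ X ≤ X := by
  rw [ZJ_eq]; exact (zjFamily_A (G := G) 2).sInf_le_self X

theorem ZJ_comm (X : Subgroup G) : ∀ x ∈ ZJ X, ∀ y ∈ ZJ X, x * y = y * x := by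
  rw [ZJ_eq]; exact (zjFamily_A (G := G) 2).sInf_comm X

theorem normalizer_le_normalizer_ZJ (X : Subgroup G) :
    Subgroup.normalizer (X : Set G) ≤ Subgroup.normalizer (ZJ X : Set G) := by
  rw [ZJ_eq]; exact (zjFamily_A (G := G) 2).le_normalizer_sInf X

theorem ZJ_le_of_mem {X A : Subgroup G} (hA : A ∈ AA X) : ZJ X ≤ A := by
  rw [ZJ_eq]; exact sInf_le hA

theorem AA_nonempty (X : Subgroup G) : (AA X).Nonempty :=
  (zjFamily_A (G := G) 2).nonempty X

theorem mem_AA_iff {X A : Subgroup G} : A ∈ AA X ↔ A ≤ X ∧ (∀ x ∈ A, ∀ y ∈ A, x * y = y * x) ∧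
    ∀ B : Subgroup G, B ≤ X → (∀ x ∈ B, ∀ y ∈ B, x * y = y * x) → Nat.card B ≤ Nat.card A :=
  Iff.rfl

theorem ZJ_le_ZJ_of_mem {T1 Ts A : Subgroup G} (hle : Ts ≤ T1) (hA : A ∈ AA T1) (hATs : A ≤ Ts) :
    ZJ T1 ≤ ZJ Ts ∧ A ∈ AA Ts := by
  have hmono := (zjFamily_A (G := G) 2).mono hle hA hATs
  refine ⟨?_, (hmono A).mpr ⟨hA, hATs⟩⟩
  rw [ZJ_eq, ZJ_eq]
  exact sInf_le_sInf (fun A' hA' => ((hmono A').mp hA').1)

/-- members of `AA X` lie in `J(X)`, which is centralized by `ZJ X` -/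
theorem commute_of_mem_ZJ_of_mem_AA {X A : Subgroup G} (hA : A ∈ AA X) {z a : G}
    (hz : z ∈ ZJ X) (ha : a ∈ A) : z * a = a * z := by
  have hz' : z ∈ Cfsg.thompsonSubgroupAOf X ⊓
      Subgroup.centralizer (Cfsg.thompsonSubgroupAOf X : Set G) := hz
  have haJ : a ∈ Cfsg.thompsonSubgroupAOf X := by
    rw [thompsonSubgroupAOf_eq]
    exact (le_sSup hA : A ≤ _) ha
  exact (Subgroup.mem_centralizer_iff.mp hz'.2 a haJ).symm

theorem ZJ_ne_bot {q : ℕ} [hq : Fact q.Prime] {X : Subgroup G} (hX : IsPGroup q X) (h1 : X ≠ ⊥) :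
    ZJ X ≠ ⊥ := by
  have : Nontrivial X := (Subgroup.nontrivial_iff_ne_bot X).mpr h1
  have hc : Nontrivial (Subgroup.center X) := hX.center_nontrivial
  obtain ⟨⟨z, hz⟩, hz1⟩ := exists_ne (1 : Subgroup.center X)
  have hzG1 : (z : G) ≠ 1 := by
    intro h
    apply hz1
    apply Subtype.ext
    apply Subtype.ext
    exact h
  have hzc : ∀ x ∈ X, x * (z : G) = (z : G) * x := by
    intro x hx
    have := Subgroup.mem_center_iff.mp hz ⟨x, hx⟩
    exact congrArg Subtype.val this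
  intro hbot
  apply hzG1
  have hmem : (z : G) ∈ ZJ X := by
    rw [ZJ_eq, Subgroup.mem_sInf]
    intro A hA
    obtain ⟨hAX, hAc, hAmax⟩ := hA
    have h1 : ∀ x ∈ (A : Set G) ∪ {(z : G)}, ∀ y ∈ (A : Set G) ∪ {(z : G)}, x * y = y * x := by
      rintro x (hx | hx) y (hy | hy)
      · exact hAc x hx y hy
      · rw [Set.mem_singleton_iff] at hy
        rw [hy]; exact hzc x (hAX hx)
      · rw [Set.mem_singleton_iff] at hx
        rw [hx]; exact (hzc y (hAX hy)).symm
      · rw [Set.mem_singleton_iff] at hx hy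
        rw [hx, hy]
    have hcomm := Subgroup.isMulCommutative_closure h1
    have hle : Subgroup.closure ((A : Set G) ∪ {(z : G)}) ≤ X := by
      rw [Subgroup.closure_le]
      rintro x (hx | hx)
      · exact hAX hx
      · rw [Set.mem_singleton_iff] at hx
        rw [hx]; exact z.2
    have hcard := hAmax _ hle (by
      intro x hx y hy
      have h2 := mul_comm' (⟨x, hx⟩ : Subgroup.closure ((A : Set G) ∪ {(z : G)})) ⟨y, hy⟩
      exact congrArg Subtype.val h2)
    have hAle : A ≤ Subgroup.closure ((A : Set G) ∪ {(z : G)}) := by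
      intro x hx
      exact Subgroup.subset_closure (Or.inl hx)
    have heq : A = Subgroup.closure ((A : Set G) ∪ {(z : G)}) := by
      by_contra hne
      have hlt : A < Subgroup.closure ((A : Set G) ∪ {(z : G)}) := lt_of_le_of_ne hAle hne
      have := Cfsg.Agent.Lib.Helper1.GlaubermanRepl.card_lt_card_of_lt hlt
      omega
    rw [heq]
    exact Subgroup.subset_closure (Or.inr rfl)
  rw [hbot, Subgroup.mem_bot] at hmem
  exact hmem

end Cfsg.Agent.Lib.Helper8.ZJI
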