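import Mathlib
import Cfsg.Agent.Lib.Helper7.ZfDefs
import Cfsg.Agent.Lib.Helper2.FourGroup
import Cfsg.Agent.Lib.Helper3.CyclicSub

set_option autoImplicit false
set_option maxHeartbeats 1000000
set_option linter.unusedVariables false
set_option linter.unusedSectionVars false
set_option linter.style.longLine false

/-!
# S0690, part G: perfect groups with dihedral Sylow 2-subgroups, cyclic odd Sylow subgroups and
the special four-group axioms.  File A: generalities.
-/

namespace Cfsg.Agent.Lib.Helper8.Zg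

open Cfsg.Agent.Lib.Helper7 Cfsg.Agent.Lib.Helper2

variable {Γ : Type*} [Group Γ]

/-- A perfect group has only trivial homomorphisms with commuting values. -/
theorem hom_apply_eq_one (hperf : commutator Γ = ⊤) {A : Type*} [Group A] (f : Γ →* A)
    (hA : ∀ a b : Γ, f a * f b = f b * f a) (g : Γ) : f g = 1 := by
  have h1 : commutator Γ ≤ f.ker := by
    rw [commutator_def, Subgroup.commutator_le]
    intro a _ b _
    rw [MonoidHom.mem_ker, commutatorElement_def, map_mul, map_mul, map_mul, map_inv, map_inv,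
      hA a b]
    group
  rw [hperf] at h1
  exact MonoidHom.mem_ker.mp (h1 (Subgroup.mem_top g))

/-- A perfect finite group with cyclic Sylow `p`-subgroups has no central element of order `p`. -/
theorem no_central_prime [Finite Γ] (hperf : commutator Γ = ⊤) (p : ℕ) [hp : Fact p.Prime]
    (hcyc : ∀ P : Sylow p Γ, IsCyclic P) (g : Γ) (hg : orderOf g = p)
    (hc : ∀ h : Γ, h * g = g * h) : False := by
  have hpg : IsPGroup p (Subgroup.zpowers g) :=
    IsPGroup.of_card (n := 1) (by rw [Nat.card_zpowers, hg, pow_one])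
  obtain ⟨P, hP⟩ := hpg.exists_le_sylow
  haveI := hcyc P
  letI : CommGroup P := IsCyclic.commGroup
  have key : ∀ (k : ℕ) (g₀ : Γ), g₀⁻¹ * g ^ k * g₀ ∈ (P : Subgroup Γ) →
      g₀⁻¹ * g ^ k * g₀ = g ^ k := by
    intro k g₀ _
    have h1 : g₀ * g ^ k = g ^ k * g₀ := (Commute.pow_right (hc g₀) k)
    rw [mul_assoc, ← h1, inv_mul_cancel_left]
  have h1 := MonoidHom.transfer_eq_pow (MonoidHom.id P) g key
  have h2 : MonoidHom.transfer (MonoidHom.id P) g = 1 :=
    hom_apply_eq_one hperf _ (fun a b => mul_comm _ _) g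
  rw [h2] at h1
  have h3 : g ^ (P : Subgroup Γ).index = 1 := by
    have := congrArg Subtype.val h1
    simpa using this.symm
  have h4 := orderOf_dvd_of_pow_eq_one h3
  rw [hg] at h4
  exact P.not_dvd_index h4

/-- In a perfect group a normal cyclic subgroup is central. -/
theorem normal_cyclic_central (hperf : commutator Γ = ⊤) (X : Subgroup Γ) [X.Normal] [IsCyclic X]
    (x : Γ) (hx : x ∈ X) (g : Γ) : g * x * g⁻¹ = x := by
  have h := hom_apply_eq_one hperf (MulAut.conjNormal (H := X)) (fun a b => by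
    apply (IsCyclic.mulAutMulEquiv X).injective
    rw [map_mul, map_mul, mul_comm]) g
  have h2 := congrArg (fun φ : MulAut X => ((φ ⟨x, hx⟩ : X) : Γ)) h
  simpa [MulAut.conjNormal_apply] using h2

/-- Two elements of order three generating different subgroups. -/
theorem exists_two_order_three [Finite Γ] (hperf : commutator Γ = ⊤)
    (hcyc : ∀ P : Sylow 3 Γ, IsCyclic P) (h3 : 3 ∣ Nat.card Γ) :
    ∃ x y : Γ, orderOf x = 3 ∧ orderOf y = 3 ∧ Subgroup.zpowers x ≠ Subgroup.zpowers y := by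
  haveI : Fact (Nat.Prime 3) := ⟨Nat.prime_three⟩
  obtain ⟨x, hx⟩ := exists_prime_orderOf_dvd_card' 3 h3
  by_contra hcon
  push Not at hcon
  have hall : ∀ y : Γ, orderOf y = 3 → Subgroup.zpowers x = Subgroup.zpowers y :=
    fun y hy => hcon x y hx hy
  have hconj : ∀ g : Γ, g * x * g⁻¹ ∈ Subgroup.zpowers x := by
    intro g
    have : orderOf (g * x * g⁻¹) = 3 := by
      rw [← hx]; exact (MulAut.conj g).orderOf_eq x
    rw [hall _ this]; exact Subgroup.mem_zpowers _
  haveI : (Subgroup.zpowers x).Normal := by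
    refine ⟨fun a ha g => ?_⟩
    obtain ⟨k, rfl⟩ := Subgroup.mem_zpowers_iff.mp ha
    have : g * x ^ k * g⁻¹ = (g * x * g⁻¹) ^ k := by rw [conj_zpow]
    rw [this]; exact Subgroup.zpow_mem _ (hconj g) k
  have hcen : ∀ g : Γ, g * x = x * g := by
    intro g
    have := normal_cyclic_central hperf (Subgroup.zpowers x) x (Subgroup.mem_zpowers x) g
    calc g * x = (g * x * g⁻¹) * g := by group
      _ = x * g := by rw [this]
  exact no_central_prime hperf 3 hcyc x hx hcen

theorem conj_ne_one {g a : Γ} (ha : a ≠ 1) : g * a * g⁻¹ ≠ 1 := by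
  intro h
  apply ha
  have : a = g⁻¹ * (g * a * g⁻¹) * g := by group
  rw [this, h]; group

theorem conj_inj {g a b : Γ} (h : g * a * g⁻¹ = g * b * g⁻¹) : a = b :=
  mul_left_cancel (mul_right_cancel h)

theorem conj_mul (g a b : Γ) : g * (a * b) * g⁻¹ = (g * a * g⁻¹) * (g * b * g⁻¹) := by group

section four
variable (E : Subgroup Γ) [hE : IsKleinFour ↥E]

theorem mul_left_self {w y : Γ} (hw : w ∈ E) : w * (w * y) = y := by
  rw [← mul_assoc, FourGroup.mul_self_of_mem E hw, one_mul]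

/-- an element normalizing a four-group, fixing `w` and not centralizing swaps the other two. -/
theorem swap_of_fix {c w y : Γ} (hc : ∀ a ∈ E, c * a * c⁻¹ ∈ E) (hw : w ∈ E) (hw1 : w ≠ 1)
    (hcw : c * w * c⁻¹ = w) (hmove : ∃ b ∈ E, c * b * c⁻¹ ≠ b) (hy : y ∈ E) (hy1 : y ≠ 1)
    (hyw : y ≠ w) : c * y * c⁻¹ = w * y := by
  rcases FourGroup.mem_cases E hw hy hw1 hy1 (Ne.symm hyw) (hc y hy) with h | h | h | h
  · exact absurd h (conj_ne_one hy1)
  · exact absurd (conj_inj (h.trans hcw.symm)) hyw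
  · exfalso
    obtain ⟨b, hb, hbm⟩ := hmove
    apply hbm
    rcases FourGroup.mem_cases E hw hy hw1 hy1 (Ne.symm hyw) hb with h' | h' | h' | h'
    · rw [h']; group
    · rw [h']; exact hcw
    · rw [h']; exact h
    · rw [h', conj_mul, hcw, h]
  · exact h

/-- two "transpositions" with different fixed points compose to a fixed-point-free element. -/
theorem fpf_of_two_swaps {c d w y : Γ} (hc : ∀ a ∈ E, c * a * c⁻¹ ∈ E)
    (hd : ∀ a ∈ E, d * a * d⁻¹ ∈ E) (hw : w ∈ E) (hw1 : w ≠ 1) (hy : y ∈ E) (hy1 : y ≠ 1)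
    (hyw : y ≠ w) (hcw : c * w * c⁻¹ = w) (hcm : ∃ b ∈ E, c * b * c⁻¹ ≠ b)
    (hdy : d * y * d⁻¹ = y) (hdm : ∃ b ∈ E, d * b * d⁻¹ ≠ b) :
    ∀ a ∈ E, a ≠ 1 → (c * d) * a * (c * d)⁻¹ ≠ a := by
  have h1 : c * y * c⁻¹ = w * y := swap_of_fix E hc hw hw1 hcw hcm hy hy1 hyw
  have h2 : d * w * d⁻¹ = y * w := swap_of_fix E hd hy hy1 hdy hdm hw hw1 (Ne.symm hyw)
  have hww : w * w = 1 := FourGroup.mul_self_of_mem E hw
  have hyy : y * y = 1 := FourGroup.mul_self_of_mem E hy
  have hcomm : w * y = y * w := FourGroup.comm_of_mem E hw hy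
  have e : ∀ a, (c * d) * a * (c * d)⁻¹ = c * (d * a * d⁻¹) * c⁻¹ := by intro a; group
  intro a ha ha1
  rw [e]
  rcases FourGroup.mem_cases E hw hy hw1 hy1 (Ne.symm hyw) ha with h | h | h | h
  · exact absurd h ha1
  · rw [h, h2, conj_mul c y w, h1, hcw]
    intro h'
    -- w * y * w = w
    apply hy1
    have : w * y * w = y := by rw [hcomm, mul_assoc, hww, mul_one]
    rw [this] at h'
    exact absurd h' hyw
  · rw [h, hdy, h1]
    intro h'
    apply hw1
    have := mul_right_cancel (h'.trans (one_mul y).symm)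
    exact this
  · rw [h, conj_mul d w y, h2, hdy]
    have : y * w * y = w := by rw [← hcomm, mul_assoc, hyy, mul_one]
    rw [this, hcw]
    intro h'
    apply hy1
    have := mul_left_cancel (h'.symm.trans (mul_one w).symm)
    exact this

/-- a fixed-point-free normalizing element has order divisible by three. -/
theorem three_dvd_orderOf [Finite Γ] {g : Γ} (hg : ∀ a ∈ E, g * a * g⁻¹ ∈ E)
    (hfpf : ∀ a ∈ E, a ≠ 1 → g * a * g⁻¹ ≠ a) : 3 ∣ orderOf g := by
  obtain ⟨a, ha, ha1⟩ : ∃ a ∈ E, a ≠ 1 := by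
    obtain ⟨b, hb, hb1, -⟩ := FourGroup.exists_third E (one_mem E)
    exact ⟨b, hb, hb1⟩
  obtain ⟨b, hb⟩ : ∃ b : Γ, b = g * a * g⁻¹ := ⟨_, rfl⟩
  have hbE : b ∈ E := by rw [hb]; exact hg a ha
  have hb1 : b ≠ 1 := by rw [hb]; exact conj_ne_one ha1
  have hba : b ≠ a := by rw [hb]; exact hfpf a ha ha1
  obtain ⟨c, hc⟩ : ∃ c : Γ, c = g * b * g⁻¹ := ⟨_, rfl⟩
  have hcE : c ∈ E := by rw [hc]; exact hg b hbE
  have hc1 : c ≠ 1 := by rw [hc]; exact conj_ne_one hb1
  have hcb : c ≠ b := by rw [hc]; exact hfpf b hbE hb1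
  have hab1 : a * b ≠ 1 := by
    intro h
    apply hba
    have h2 := FourGroup.mul_self_of_mem E ha
    have : b = a⁻¹ := eq_inv_of_mul_eq_one_right h
    have h3 : a⁻¹ = a := inv_eq_of_mul_eq_one_right h2
    rw [this, h3]
  have hca : c ≠ a := by
    intro hca
    apply hfpf (a * b) (Subgroup.mul_mem _ ha hbE) hab1
    rw [conj_mul, ← hb, ← hc, hca]
    exact FourGroup.comm_of_mem E hbE ha
  have hcab : c = a * b := by
    rcases FourGroup.mem_cases E ha hbE ha1 hb1 (Ne.symm hba) hcE with h | h | h | h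
    · exact absurd h hc1
    · exact absurd h hca
    · exact absurd h hcb
    · exact h
  have hgc : g * c * g⁻¹ = a := by
    have h1 : g * c * g⁻¹ = b * c := by rw [hcab, conj_mul, ← hb, ← hc, hcab]
    rw [h1, hcab, FourGroup.comm_of_mem E ha hbE, ← mul_assoc,
      FourGroup.mul_self_of_mem E hbE, one_mul]
  by_contra h3
  have hcop : Nat.Coprime 3 (orderOf g) := (Nat.Prime.coprime_iff_not_dvd Nat.prime_three).mpr h3
  obtain ⟨m, hm⟩ := exists_pow_eq_self_of_coprime hcop
  have h3a : g ^ 3 * a * (g ^ 3)⁻¹ = a := by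
    have h3' : g ^ 3 = g * g * g := by rw [pow_succ, pow_succ, pow_one]
    have : g ^ 3 * a * (g ^ 3)⁻¹ = g * (g * (g * a * g⁻¹) * g⁻¹) * g⁻¹ := by rw [h3']; group
    rw [this, ← hb, ← hc, hgc]
  have hk : ∀ k : ℕ, (g ^ 3) ^ k * a * ((g ^ 3) ^ k)⁻¹ = a := by
    intro k
    induction k with
    | zero => simp
    | succ k ih =>
      have : (g ^ 3) ^ (k + 1) * a * ((g ^ 3) ^ (k + 1))⁻¹
          = (g ^ 3) ^ k * (g ^ 3 * a * (g ^ 3)⁻¹) * ((g ^ 3) ^ k)⁻¹ := by
        rw [pow_succ]; group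
      rw [this, h3a, ih]
  have := hk m
  rw [hm] at this
  exact hfpf a ha ha1 this

/-- an element of order three normalizing a four-group and fixing an involution centralizes. -/
theorem centralizes_of_cube {x w : Γ} (hx3 : x ^ 3 = 1) (hx : ∀ a ∈ E, x * a * x⁻¹ ∈ E)
    (hw : w ∈ E) (hw1 : w ≠ 1) (hxw : x * w * x⁻¹ = w) : ∀ a ∈ E, x * a * x⁻¹ = a := by
  obtain ⟨y, hy, hy1, hyw⟩ := FourGroup.exists_third E hw
  have hxy : x * y * x⁻¹ = y := by
    rcases FourGroup.mem_cases E hw hy hw1 hy1 (Ne.symm hyw) (hx y hy) with h | h | h | h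
    · exact absurd h (conj_ne_one hy1)
    · exact absurd (conj_inj (h.trans hxw.symm)) hyw
    · exact h
    · exfalso
      have h2 : x * (w * y) * x⁻¹ = y := by
        rw [conj_mul, hxw, h, mul_left_self E hw]
      have h3 : x * y * x⁻¹ = y := by
        have e1 : y = x ^ 3 * y * (x ^ 3)⁻¹ := by rw [hx3]; group
        have h3' : x ^ 3 = x * x * x := by rw [pow_succ, pow_succ, pow_one]
        have e2 : x ^ 3 * y * (x ^ 3)⁻¹ = x * (x * (x * y * x⁻¹) * x⁻¹) * x⁻¹ := by
          rw [h3']; group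
        rw [e2, h, h2] at e1
        exact e1.symm
      rw [h3] at h
      apply hw1
      exact (mul_right_cancel (h.symm.trans (one_mul y).symm))
  intro a ha
  rcases FourGroup.mem_cases E hw hy hw1 hy1 (Ne.symm hyw) ha with h | h | h | h
  · rw [h]; group
  · rw [h]; exact hxw
  · rw [h]; exact hxy
  · rw [h, conj_mul, hxw, hxy]

end four

end Cfsg.Agent.Lib.Helper8.Zg
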