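import Mathlib
import Cfsg.Agent.Lib.Helper8.ZgA

set_option autoImplicit false
set_option maxHeartbeats 1000000
set_option linter.unusedVariables false
set_option linter.unusedSectionVars false
set_option linter.style.longLine false
set_option linter.style.haveILetI false

/-!
# S0690, part G, file B: conjugate subgroups, Sylow conjugation inside a subgroup,
cyclic Sylow 3-subgroups.
-/

namespace Cfsg.Agent.Lib.Helper8.Zg

open Cfsg.Agent.Lib.Helper7 Cfsg.Agent.Lib.Helper2

variable {Γ : Type*} [Group Γ]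

/-- the conjugate subgroup `h U h⁻¹` -/
def conjSub (h : Γ) (U : Subgroup Γ) : Subgroup Γ := U.map (MulAut.conj h).toMonoidHom

theorem mem_conjSub {h t : Γ} {U : Subgroup Γ} : t ∈ conjSub h U ↔ h⁻¹ * t * h ∈ U := by
  unfold conjSub
  rw [Subgroup.mem_map]
  constructor
  · rintro ⟨u, hu, rfl⟩
    simp only [MulEquiv.coe_toMonoidHom, MulAut.conj_apply]
    have : h⁻¹ * (h * u * h⁻¹) * h = u := by group
    rw [this]; exact hu
  · intro ht
    refine ⟨_, ht, ?_⟩
    simp only [MulEquiv.coe_toMonoidHom, MulAut.conj_apply]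
    group

theorem conj_mem_conjSub {h u : Γ} {U : Subgroup Γ} (hu : u ∈ U) : h * u * h⁻¹ ∈ conjSub h U := by
  rw [mem_conjSub]
  have : h⁻¹ * (h * u * h⁻¹) * h = u := by group
  rw [this]; exact hu

/-- the isomorphism of a subgroup with its conjugate -/
noncomputable def conjSubEquiv (h : Γ) (U : Subgroup Γ) : U ≃* conjSub h U :=
  U.equivMapOfInjective (MulAut.conj h).toMonoidHom (MulAut.conj h).injective

theorem conjSubEquiv_apply (h : Γ) (U : Subgroup Γ) (u : U) :
    ((conjSubEquiv h U u : conjSub h U) : Γ) = h * u * h⁻¹ := by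
  rfl

theorem isKleinFour_conjSub {U : Subgroup Γ} (hU : IsKleinFour U) (h : Γ) :
    IsKleinFour (conjSub h U) := by
  have e := conjSubEquiv h U
  exact ⟨by rw [← Nat.card_congr e.toEquiv]; exact hU.card_four,
    by rw [← Monoid.exponent_eq_of_mulEquiv e]; exact hU.exponent_two⟩

theorem conj_mem_of_mem_normalizer {U : Subgroup Γ} {x a : Γ}
    (hx : x ∈ Subgroup.normalizer (U : Set Γ)) (ha : a ∈ U) : x * a * x⁻¹ ∈ U :=
  (Subgroup.mem_normalizer_iff.mp hx a).mp ha

theorem mem_normalizer_of_forall [Finite Γ] {U : Subgroup Γ} {x : Γ}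
    (h : ∀ a ∈ U, x * a * x⁻¹ ∈ U) : x ∈ Subgroup.normalizer (U : Set Γ) :=
  Subgroup.mem_normalizer_fintype h

/-- a conjugate of a special four-group is special -/
theorem special_conjSub [Finite Γ] {U : Subgroup Γ} (hU : Zf.Special U) (h : Γ) :
    Zf.Special (conjSub h U) := by
  obtain ⟨hK, x, hx3, hxN, a, ha, hxa⟩ := hU
  refine ⟨isKleinFour_conjSub hK h, h * x * h⁻¹, ?_, ?_, h * a * h⁻¹, conj_mem_conjSub ha, ?_⟩
  · rw [← hx3]; exact (MulAut.conj h).orderOf_eq x
  · apply mem_normalizer_of_forall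
    intro t ht
    rw [mem_conjSub] at ht ⊢
    have h1 := conj_mem_of_mem_normalizer hxN ht
    have : h⁻¹ * (h * x * h⁻¹ * t * (h * x * h⁻¹)⁻¹) * h = x * (h⁻¹ * t * h) * x⁻¹ := by group
    rw [this]; exact h1
  · intro h'
    apply hxa
    have : h * x * h⁻¹ * (h * a * h⁻¹) * (h * x * h⁻¹)⁻¹ = h * (x * a * x⁻¹) * h⁻¹ := by group
    rw [this] at h'
    exact conj_inj h'

/-- a `p`-subgroup is conjugate into a given Sylow `p`-subgroup -/
theorem exists_conj_le_sylow [Finite Γ] {p : ℕ} [Fact p.Prime] (P : Sylow p Γ) (E : Subgroup Γ)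
    (hE : IsPGroup p E) : ∃ c : Γ, ∀ a ∈ E, c * a * c⁻¹ ∈ (P : Subgroup Γ) := by
  obtain ⟨Q, hQ⟩ := hE.exists_le_sylow
  obtain ⟨c, hc⟩ := MulAction.exists_smul_eq Γ Q P
  refine ⟨c, fun a ha => ?_⟩
  have h1 : c * a * c⁻¹ ∈ ((c • Q : Sylow p Γ) : Subgroup Γ) := by
    rw [Sylow.coe_subgroup_smul, Subgroup.mem_pointwise_smul_iff_inv_smul_mem]
    simp only [MulAut.smul_def, MulAut.conj_inv_apply]
    have : c⁻¹ * (c * a * c⁻¹) * c = a := by group
    rw [this]; exact hQ ha
  rw [hc] at h1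
  exact h1

/-- Sylow conjugation inside a subgroup containing a Sylow subgroup -/
theorem exists_conj_mem_sylow [Finite Γ] {p : ℕ} [Fact p.Prime] (S' : Sylow p Γ) (H : Subgroup Γ)
    (hS'H : (S' : Subgroup Γ) ≤ H) (E : Subgroup Γ) (hE : IsPGroup p E) (hEH : E ≤ H) :
    ∃ k ∈ H, ∀ a ∈ E, k * a * k⁻¹ ∈ (S' : Subgroup Γ) := by
  have hE0 : IsPGroup p (E.subgroupOf H) := hE.comap_subtype
  obtain ⟨k, hk⟩ := exists_conj_le_sylow (S'.subtype hS'H) (E.subgroupOf H) hE0
  refine ⟨k, k.2, fun a ha => ?_⟩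
  have h1 := hk ⟨a, hEH ha⟩ (Subgroup.mem_subgroupOf.mpr ha)
  rw [Sylow.coe_subtype, Subgroup.mem_subgroupOf] at h1
  simpa using h1

/-- Sylow subgroups of a subgroup are cyclic when those of the group are -/
theorem isCyclic_sylow_of_injective {H : Type*} [Group H] [Finite Γ] {p : ℕ} [Fact p.Prime]
    (hcyc : ∀ P : Sylow p Γ, IsCyclic P) (f : H →* Γ) (hf : Function.Injective f)
    (P : Sylow p H) : IsCyclic P := by
  obtain ⟨Q, hQ⟩ := P.exists_comap_eq_of_injective hf
  haveI := hcyc Q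
  have h : Subgroup.map f P ≤ Q := hQ ▸ Subgroup.map_comap_le f ↑Q
  have := isCyclic_of_surjective _ (Subgroup.subgroupOfEquivOfLe h).surjective
  exact isCyclic_of_surjective _ (Subgroup.equivMapOfInjective P f hf).symm.surjective

/-- with cyclic Sylow `3`-subgroups, a normal subgroup of order divisible by three contains all
elements of order three -/
theorem mem_of_orderOf_three {N : Type*} [Group N] [Finite N]
    (hcyc : ∀ P : Sylow 3 N, IsCyclic P) (K : Subgroup N) [hKn : K.Normal] (k : N) (hk : k ∈ K)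
    (hk3 : orderOf k = 3) (x : N) (hx3 : orderOf x = 3) : x ∈ K := by
  haveI : Fact (Nat.Prime 3) := ⟨Nat.prime_three⟩
  have hpx : IsPGroup 3 (Subgroup.zpowers x) :=
    IsPGroup.of_card (n := 1) (by rw [Nat.card_zpowers, hx3, pow_one])
  have hpk : IsPGroup 3 (Subgroup.zpowers k) :=
    IsPGroup.of_card (n := 1) (by rw [Nat.card_zpowers, hk3, pow_one])
  obtain ⟨R, hR⟩ := hpx.exists_le_sylow
  obtain ⟨n, hn⟩ := exists_conj_le_sylow R (Subgroup.zpowers k) hpk
  have hk' : n * k * n⁻¹ ∈ (R : Subgroup N) := hn k (Subgroup.mem_zpowers k)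
  haveI := hcyc R
  have ho : orderOf (n * k * n⁻¹) = 3 := by
    rw [← hk3]; exact (MulAut.conj n).orderOf_eq k
  have heq : Subgroup.zpowers x = Subgroup.zpowers (n * k * n⁻¹) :=
    Cfsg.Agent.Lib.Helper3.subgroup_eq_of_card_eq_of_le_isCyclic (R : Subgroup N) _ _ hR
      (Subgroup.zpowers_le.mpr hk') (by rw [Nat.card_zpowers, Nat.card_zpowers, hx3, ho])
  have hx : x ∈ Subgroup.zpowers (n * k * n⁻¹) := heq ▸ Subgroup.mem_zpowers x
  exact (Subgroup.zpowers_le.mpr (hKn.conj_mem k hk n)) hx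

/-- the final contradiction: with cyclic Sylow `3`-subgroups, two elements of order three
normalizing `U` cannot act differently -/
theorem false_of_three [Finite Γ] (hcyc : ∀ P : Sylow 3 Γ, IsCyclic P) (U : Subgroup Γ)
    (x1 x3 : Γ) (h1 : orderOf x1 = 3) (h3 : orderOf x3 = 3)
    (hx1 : x1 ∈ Subgroup.normalizer (U : Set Γ)) (hx3 : ∀ a ∈ U, x3 * a * x3⁻¹ = a)
    (hmove : ∃ a ∈ U, x1 * a * x1⁻¹ ≠ a) : False := by
  haveI : Fact (Nat.Prime 3) := ⟨Nat.prime_three⟩
  have hx3N : x3 ∈ Subgroup.normalizer (U : Set Γ) :=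
    mem_normalizer_of_forall (fun a ha => by rw [hx3 a ha]; exact ha)
  haveI : ((Subgroup.centralizer (U : Set Γ)).subgroupOf (Subgroup.normalizer (U : Set Γ))).Normal := by
    rw [← Subgroup.normalizerMonoidHom_ker]; infer_instance
  have hx3C : (⟨x3, hx3N⟩ : Subgroup.normalizer (U : Set Γ)) ∈
      (Subgroup.centralizer (U : Set Γ)).subgroupOf (Subgroup.normalizer (U : Set Γ)) := by
    rw [Subgroup.mem_subgroupOf, Subgroup.mem_centralizer_iff]
    intro a ha
    have := hx3 a ha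
    calc a * x3 = a * x3 := rfl
      _ = (x3 * a * x3⁻¹) * x3 := by rw [this]
      _ = x3 * a := by group
  have key := mem_of_orderOf_three
    (fun P => isCyclic_sylow_of_injective hcyc (Subgroup.normalizer (U : Set Γ)).subtype
      (Subgroup.subtype_injective _) P)
    ((Subgroup.centralizer (U : Set Γ)).subgroupOf (Subgroup.normalizer (U : Set Γ)))
    ⟨x3, hx3N⟩ hx3C (by rw [Subgroup.orderOf_mk]; exact h3) ⟨x1, hx1⟩
    (by rw [Subgroup.orderOf_mk]; exact h1)
  rw [Subgroup.mem_subgroupOf, Subgroup.mem_centralizer_iff] at key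
  obtain ⟨a, ha, hne⟩ := hmove
  apply hne
  have := key a ha
  simp only at this
  rw [← this]; group

end Cfsg.Agent.Lib.Helper8.Zg
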