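import Mathlib
import Cfsg.Agent.Lib.Helper8.ZgB
import Cfsg.Agent.Lib.Helper1.DihedralSylowInvolutions

set_option autoImplicit false
set_option maxHeartbeats 1000000
set_option linter.unusedVariables false
set_option linter.unusedSectionVars false
set_option linter.style.longLine false
set_option linter.style.haveILetI false

/-!
# S0690, part G, file C: four-subgroups of a dihedral `2`-group.
-/

namespace Cfsg.Agent.Lib.Helper8.Zg

open Cfsg.Agent.Lib.Helper7 Cfsg.Agent.Lib.Helper2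

variable {Γ : Type*} [Group Γ]

section dih
variable (P : Subgroup Γ) (n : ℕ) (e : P ≃* DihedralGroup (2 ^ n))

/-- rotations of `P` as elements of `Γ` -/
noncomputable def rot (i : ZMod (2 ^ n)) : Γ := ((e.symm (DihedralGroup.r i) : P) : Γ)
/-- reflections of `P` as elements of `Γ` -/
noncomputable def refl (i : ZMod (2 ^ n)) : Γ := ((e.symm (DihedralGroup.sr i) : P) : Γ)

theorem rot_mem (i : ZMod (2 ^ n)) : rot P n e i ∈ P := (e.symm (DihedralGroup.r i)).2
theorem refl_mem (i : ZMod (2 ^ n)) : refl P n e i ∈ P := (e.symm (DihedralGroup.sr i)).2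

theorem rot_mul_rot (i j : ZMod (2 ^ n)) : rot P n e i * rot P n e j = rot P n e (i + j) := by
  unfold rot
  rw [← Subgroup.coe_mul, ← map_mul, DihedralGroup.r_mul_r]

theorem rot_mul_refl (i j : ZMod (2 ^ n)) : rot P n e i * refl P n e j = refl P n e (j - i) := by
  unfold rot refl
  rw [← Subgroup.coe_mul, ← map_mul, DihedralGroup.r_mul_sr]

theorem refl_mul_rot (i j : ZMod (2 ^ n)) : refl P n e i * rot P n e j = refl P n e (i + j) := by
  unfold rot refl
  rw [← Subgroup.coe_mul, ← map_mul, DihedralGroup.sr_mul_r]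

theorem refl_mul_refl (i j : ZMod (2 ^ n)) : refl P n e i * refl P n e j = rot P n e (j - i) := by
  unfold rot refl
  rw [← Subgroup.coe_mul, ← map_mul, DihedralGroup.sr_mul_sr]

theorem rot_zero : rot P n e 0 = 1 := by
  unfold rot
  rw [← DihedralGroup.one_def, map_one, Subgroup.coe_one]

theorem rot_inj {i j : ZMod (2 ^ n)} (h : rot P n e i = rot P n e j) : i = j := by
  unfold rot at h
  have := e.symm.injective (Subtype.ext h)
  exact DihedralGroup.r.inj this

theorem refl_inj {i j : ZMod (2 ^ n)} (h : refl P n e i = refl P n e j) : i = j := by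
  unfold refl at h
  have := e.symm.injective (Subtype.ext h)
  exact DihedralGroup.sr.inj this

theorem rot_ne_refl (i j : ZMod (2 ^ n)) : rot P n e i ≠ refl P n e j := by
  intro h
  unfold rot refl at h
  have := e.symm.injective (Subtype.ext h)
  cases this

theorem cases_mem (t : Γ) (ht : t ∈ P) :
    (∃ j, t = rot P n e j) ∨ (∃ j, t = refl P n e j) := by
  cases h : e ⟨t, ht⟩ with
  | r j =>
    left
    refine ⟨j, ?_⟩
    have : e.symm (DihedralGroup.r j) = ⟨t, ht⟩ := by rw [← h, e.symm_apply_apply]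
    unfold rot; rw [this]
  | sr j =>
    right
    refine ⟨j, ?_⟩
    have : e.symm (DihedralGroup.sr j) = ⟨t, ht⟩ := by rw [← h, e.symm_apply_apply]
    unfold refl; rw [this]

theorem rot_inv (i : ZMod (2 ^ n)) : (rot P n e i)⁻¹ = rot P n e (-i) := by
  have : rot P n e i * rot P n e (-i) = 1 := by
    rw [rot_mul_rot, add_neg_cancel, rot_zero]
  exact (eq_inv_of_mul_eq_one_right this).symm

theorem refl_mul_self (i : ZMod (2 ^ n)) : refl P n e i * refl P n e i = 1 := by
  rw [refl_mul_refl, sub_self, rot_zero]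

end dih

section arith
variable (n : ℕ)

theorem half_add_half (hn : 1 ≤ n) :
    (((2 ^ (n - 1) : ℕ) : ZMod (2 ^ n)) + ((2 ^ (n - 1) : ℕ) : ZMod (2 ^ n))) = 0 := by
  rw [← Nat.cast_add]
  have : 2 ^ (n - 1) + 2 ^ (n - 1) = 2 ^ n := by
    have : n = (n - 1) + 1 := by omega
    conv_rhs => rw [this, pow_succ]
    ring
  rw [this]
  exact ZMod.natCast_self (2 ^ n)

theorem half_ne_zero (hn : 1 ≤ n) : ((2 ^ (n - 1) : ℕ) : ZMod (2 ^ n)) ≠ 0 := by
  intro h
  rw [ZMod.natCast_eq_zero_iff] at h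
  have h1 : 2 ^ n ≤ 2 ^ (n - 1) := Nat.le_of_dvd (by positivity) h
  have h2 : 2 ^ (n - 1) < 2 ^ n := Nat.pow_lt_pow_right (by norm_num) (by omega)
  omega

theorem quarter_add_quarter (hn : 2 ≤ n) :
    (((2 ^ (n - 2) : ℕ) : ZMod (2 ^ n)) + ((2 ^ (n - 2) : ℕ) : ZMod (2 ^ n)))
      = ((2 ^ (n - 1) : ℕ) : ZMod (2 ^ n)) := by
  rw [← Nat.cast_add]
  have : 2 ^ (n - 2) + 2 ^ (n - 2) = 2 ^ (n - 1) := by
    have : n - 1 = (n - 2) + 1 := by omega
    rw [this, pow_succ]
    ring
  rw [this]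

theorem one_ne_zero' (hn : 1 ≤ n) : (1 : ZMod (2 ^ n)) ≠ 0 := by
  intro h
  have h0 : ((1 : ℕ) : ZMod (2 ^ n)) = 0 := by rw [Nat.cast_one]; exact h
  rw [ZMod.natCast_eq_zero_iff] at h0
  have h1 : 2 ^ n ≤ 1 := Nat.le_of_dvd (by norm_num) h0
  have h2 : 2 ^ 1 ≤ 2 ^ n := Nat.pow_le_pow_right (by norm_num) hn
  omega

theorem half_add_one_ne_zero (hn : 2 ≤ n) : ((2 ^ (n - 1) : ℕ) : ZMod (2 ^ n)) + 1 ≠ 0 := by
  intro h
  have h0 : ((2 ^ (n - 1) + 1 : ℕ) : ZMod (2 ^ n)) = 0 := by
    rw [Nat.cast_add, Nat.cast_one]; exact h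
  rw [ZMod.natCast_eq_zero_iff] at h0
  have h1 : 2 ^ n ≤ 2 ^ (n - 1) + 1 := Nat.le_of_dvd (by positivity) h0
  have h2 : 2 ^ n = 2 ^ (n - 1) + 2 ^ (n - 1) := by
    have : n = (n - 1) + 1 := by omega
    conv_lhs => rw [this, pow_succ]
    ring
  have h3 : 2 ^ 1 ≤ 2 ^ (n - 1) := Nat.pow_le_pow_right (by norm_num) (by omega)
  omega

end arith

/-- The structure of a four-subgroup `E` of a dihedral `2`-group `P` of order at least eight:
it contains the central involution, some element of `P` normalizes `E` without centralizing it,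
and there is a second four-subgroup of `P` through the central involution. -/
theorem dihedral_four [Finite Γ] (P : Subgroup Γ) (n : ℕ) (hn : 2 ≤ n)
    (e : P ≃* DihedralGroup (2 ^ n)) (E : Subgroup Γ) (hE : IsKleinFour E) (hEP : E ≤ P) :
    ∃ w ∈ E, w ≠ 1 ∧ (∀ t ∈ P, t * w = w * t) ∧
      (∃ c ∈ P, (∀ a ∈ E, c * a * c⁻¹ ∈ E) ∧ ∃ b ∈ E, c * b * c⁻¹ ≠ b) ∧
      ∃ E2 : Subgroup Γ, IsKleinFour E2 ∧ E2 ≤ P ∧ E2 ≠ E ∧ w ∈ E2 := by
  haveI := hE
  obtain ⟨h, hh⟩ : ∃ h : ZMod (2 ^ n), h = ((2 ^ (n - 1) : ℕ) : ZMod (2 ^ n)) := ⟨_, rfl⟩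
  obtain ⟨q, hq⟩ : ∃ q : ZMod (2 ^ n), q = ((2 ^ (n - 2) : ℕ) : ZMod (2 ^ n)) := ⟨_, rfl⟩
  have hhh : h + h = 0 := by rw [hh]; exact half_add_half n (by omega)
  have hh0 : h ≠ 0 := by rw [hh]; exact half_ne_zero n (by omega)
  have hqq : q + q = h := by rw [hq, hh]; exact quarter_add_quarter n hn
  have h10 : (1 : ZMod (2 ^ n)) ≠ 0 := one_ne_zero' n (by omega)
  have hh1 : h + 1 ≠ 0 := by rw [hh]; exact half_add_one_ne_zero n hn
  have hsq : ∀ a ∈ E, a * a = 1 := fun a ha => FourGroup.mul_self_of_mem E ha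
  have hrotE : ∀ j, rot P n e j ∈ E → j = 0 ∨ j = h := by
    intro j hj
    have h1 := hsq _ hj
    rw [rot_mul_rot, ← rot_zero P n e] at h1
    have h2 := rot_inj P n e h1
    by_cases hj0 : j = 0
    · left; exact hj0
    · right
      exact Cfsg.Agent.Lib.Helper1.zmod_two_pow_eq_of_double_eq_zero n (by omega) j h h2 hj0 hhh hh0
  -- a reflection in `E`
  obtain ⟨i, hi⟩ : ∃ i, refl P n e i ∈ E := by
    obtain ⟨a0, ha0, ha01, -⟩ := FourGroup.exists_third E (one_mem E)
    rcases cases_mem P n e a0 (hEP ha0) with ⟨j, hj⟩ | ⟨j, hj⟩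
    · obtain ⟨b, hb, hb1, hba⟩ := FourGroup.exists_third E ha0
      rcases cases_mem P n e b (hEP hb) with ⟨j', hj'⟩ | ⟨j', hj'⟩
      · exfalso
        rw [hj] at ha0 ha01 hba
        rw [hj'] at hb hb1 hba
        have e1 : j = h := by
          rcases hrotE j ha0 with h0 | h0
          · exfalso; apply ha01; rw [h0, rot_zero]
          · exact h0
        have e2 : j' = h := by
          rcases hrotE j' hb with h0 | h0
          · exfalso; apply hb1; rw [h0, rot_zero]
          · exact h0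
        apply hba; rw [e1, e2]
      · exact ⟨j', hj' ▸ hb⟩
    · exact ⟨j, hj ▸ ha0⟩
  -- the central involution lies in `E`
  have hw : rot P n e h ∈ E := by
    obtain ⟨b, hb, hb1, hbi⟩ := FourGroup.exists_third E hi
    rcases cases_mem P n e b (hEP hb) with ⟨j, hj⟩ | ⟨j, hj⟩
    · rw [hj] at hb hb1
      rcases hrotE j hb with h0 | h0
      · exfalso; apply hb1; rw [h0, rot_zero]
      · rw [← h0]; exact hb
    · rw [hj] at hb hbi
      have h1 : refl P n e i * refl P n e j ∈ E := Subgroup.mul_mem _ hi hb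
      rw [refl_mul_refl] at h1
      rcases hrotE _ h1 with h0 | h0
      · exfalso; apply hbi; rw [sub_eq_zero.mp h0]
      · rw [← h0]; exact h1
  have hw1 : rot P n e h ≠ 1 := by
    intro h'
    rw [← rot_zero P n e] at h'
    exact hh0 (rot_inj P n e h')
  have hneg : -h = h := by
    have := eq_neg_of_add_eq_zero_left hhh
    exact this.symm
  have hcen : ∀ t ∈ P, t * rot P n e h = rot P n e h * t := by
    intro t ht
    rcases cases_mem P n e t ht with ⟨j, hj⟩ | ⟨j, hj⟩
    · rw [hj, rot_mul_rot, rot_mul_rot, add_comm]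
    · rw [hj, refl_mul_rot, rot_mul_refl, sub_eq_add_neg, hneg]
  have hwr : ∀ j, rot P n e h * refl P n e j = refl P n e (j - h) := fun j => rot_mul_refl P n e h j
  -- the element `c`
  have hcw : rot P n e q * rot P n e h * (rot P n e q)⁻¹ = rot P n e h := by
    rw [hcen _ (rot_mem P n e q), mul_assoc, mul_inv_cancel, mul_one]
  have hci : rot P n e q * refl P n e i * (rot P n e q)⁻¹ = rot P n e h * refl P n e i := by
    rw [rot_inv, rot_mul_refl, refl_mul_rot, hwr]
    congr 1
    rw [← hqq]; ring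
  have hiw : refl P n e i ≠ rot P n e h := fun h' => rot_ne_refl P n e _ _ h'.symm
  have hi1 : refl P n e i ≠ 1 := by
    intro h'
    rw [← rot_zero P n e] at h'
    exact rot_ne_refl P n e _ _ h'.symm
  refine ⟨rot P n e h, hw, hw1, hcen, ⟨rot P n e q, rot_mem P n e q, ?_, refl P n e i, hi, ?_⟩, ?_⟩
  · intro a ha
    rcases FourGroup.mem_cases E hw hi hw1 hi1 (Ne.symm hiw) ha with h' | h' | h' | h'
    · rw [h']; simp
    · rw [h', hcw]; exact hw
    · rw [h', hci]; exact Subgroup.mul_mem _ hw hi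
    · rw [h', conj_mul, hcw, hci, mul_left_self E hw]; exact hi
  · rw [hci]
    intro h'
    apply hw1
    exact mul_right_cancel (h'.trans (one_mul _).symm)
  · -- the second four-group
    have hww : rot P n e h * rot P n e h = 1 := hsq _ hw
    have hrr : refl P n e (i + 1) * refl P n e (i + 1) = 1 := refl_mul_self P n e _
    have hcomm : rot P n e h * refl P n e (i + 1) = refl P n e (i + 1) * rot P n e h :=
      (hcen _ (refl_mem P n e _)).symm
    have hr1 : refl P n e (i + 1) ≠ 1 := by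
      intro h'
      rw [← rot_zero P n e] at h'
      exact rot_ne_refl P n e _ _ h'.symm
    refine ⟨FourGroup.fourSub (rot P n e h) (refl P n e (i + 1)) hww hrr hcomm,
      FourGroup.isKleinFour_fourSub hw1 hr1 (rot_ne_refl P n e _ _),
      FourGroup.fourSub_le (rot_mem P n e h) (refl_mem P n e _), ?_, FourGroup.left_mem_fourSub⟩
    intro heq
    have hmem : refl P n e (i + 1) ∈ E := by
      rw [← heq]; exact FourGroup.right_mem_fourSub
    rcases FourGroup.mem_cases E hw hi hw1 hi1 (Ne.symm hiw) hmem with h' | h' | h' | h'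
    · exact hr1 h'
    · exact rot_ne_refl P n e _ _ h'.symm
    · have := refl_inj P n e h'
      apply h10
      have h2 : i + 1 = i + 0 := by rw [add_zero]; exact this
      exact add_left_cancel h2
    · rw [hwr] at h'
      have := refl_inj P n e h'
      apply hh1
      have h2 : i + 1 = i + (-h) := by rw [← sub_eq_add_neg]; exact this
      have h3 : (1 : ZMod (2 ^ n)) = -h := add_left_cancel h2
      rw [h3, hneg]; exact hhh

/-- a dihedral `2`-group of order at least eight contains a four-group -/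
theorem exists_four_le (P : Subgroup Γ) (n : ℕ) (hn : 2 ≤ n) (e : P ≃* DihedralGroup (2 ^ n)) :
    ∃ E : Subgroup Γ, IsKleinFour E ∧ E ≤ P := by
  obtain ⟨h, hh⟩ : ∃ h : ZMod (2 ^ n), h = ((2 ^ (n - 1) : ℕ) : ZMod (2 ^ n)) := ⟨_, rfl⟩
  have hhh : h + h = 0 := by rw [hh]; exact half_add_half n (by omega)
  have hh0 : h ≠ 0 := by rw [hh]; exact half_ne_zero n (by omega)
  have hw1 : rot P n e h ≠ 1 := by
    intro h'
    rw [← rot_zero P n e] at h'
    exact hh0 (rot_inj P n e h')
  have hww : rot P n e h * rot P n e h = 1 := by rw [rot_mul_rot, hhh, rot_zero]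
  have hrr : refl P n e 0 * refl P n e 0 = 1 := refl_mul_self P n e _
  have hneg : -h = h := (eq_neg_of_add_eq_zero_left hhh).symm
  have hcomm : rot P n e h * refl P n e 0 = refl P n e 0 * rot P n e h := by
    rw [rot_mul_refl, refl_mul_rot, sub_eq_add_neg, hneg]
  have hr1 : refl P n e 0 ≠ 1 := by
    intro h'
    rw [← rot_zero P n e] at h'
    exact rot_ne_refl P n e _ _ h'.symm
  exact ⟨FourGroup.fourSub (rot P n e h) (refl P n e 0) hww hrr hcomm,
    FourGroup.isKleinFour_fourSub hw1 hr1 (rot_ne_refl P n e _ _),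
    FourGroup.fourSub_le (rot_mem P n e h) (refl_mem P n e _)⟩

end Cfsg.Agent.Lib.Helper8.Zg
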