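import Mathlib
import Cfsg.Agent.Lib.Helper8.ZgC
import Cfsg.Agent.Lib.Helper2.IsolatedResidual

set_option autoImplicit false
set_option maxHeartbeats 1000000
set_option linter.unusedVariables false
set_option linter.unusedSectionVars false
set_option linter.style.longLine false
set_option linter.style.haveILetI false

/-!
# S0690, part G, file D: the dihedral case of order at least eight is impossible.
-/

namespace Cfsg.Agent.Lib.Helper8.Zg

open Cfsg.Agent.Lib.Helper7 Cfsg.Agent.Lib.Helper2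

variable {Γ : Type*} [Group Γ]

theorem pow_conj_mem {E : Subgroup Γ} {g : Γ} (hg : ∀ a ∈ E, g * a * g⁻¹ ∈ E) (k : ℕ) :
    ∀ a ∈ E, g ^ k * a * (g ^ k)⁻¹ ∈ E := by
  induction k with
  | zero => intro a ha; simpa using ha
  | succ k ih =>
    intro a ha
    have : g ^ (k + 1) * a * (g ^ (k + 1))⁻¹ = g ^ k * (g * a * g⁻¹) * (g ^ k)⁻¹ := by
      rw [pow_succ]; group
    rw [this]
    exact ih _ (hg a ha)

/-- the fusion lemma: every four-subgroup of the dihedral Sylow `2`-subgroup is normalized by an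
element acting without fixed points on its involutions -/
theorem exists_fpf [Finite Γ] (hperf : commutator Γ = ⊤) (S : Sylow 2 Γ) (n : ℕ) (hn : 2 ≤ n)
    (e : (S : Subgroup Γ) ≃* DihedralGroup (2 ^ n)) (E : Subgroup Γ) (hE : IsKleinFour E)
    (hES : E ≤ S) :
    ∃ g : Γ, (∀ a ∈ E, g * a * g⁻¹ ∈ E) ∧ ∀ a ∈ E, a ≠ 1 → g * a * g⁻¹ ≠ a := by
  haveI := hE
  haveI : Fact (Nat.Prime 2) := ⟨Nat.prime_two⟩
  obtain ⟨w, hw, hw1, hwcen, ⟨c, hcS, hcN, hcm⟩, -⟩ := dihedral_four S n hn e E hE hES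
  obtain ⟨y, hy, hy1, hyw⟩ := FourGroup.exists_third E hw
  have how : orderOf w = 2 := FourGroup.orderOf_of_mem E hw hw1
  have hoy : orderOf y = 2 := FourGroup.orderOf_of_mem E hy hy1
  have hO : Cfsg.pResidual 2 Γ = ⊤ :=
    Cfsg.Agent.Lib.Helper2.IsoRes.pResidual_eq_top_of_sylow_le_commutator S
      (by rw [hperf]; exact le_top)
  obtain ⟨h, hh⟩ :=
    Cfsg.Agent.Lib.Helper1.dihedral_sylow_involutions_conj S n hn ⟨e⟩ hO w y how hoy
  have hS'H : ((h • S : Sylow 2 Γ) : Subgroup Γ) ≤ Subgroup.centralizer {y} := by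
    intro t ht
    rw [Sylow.coe_subgroup_smul, Subgroup.mem_pointwise_smul_iff_inv_smul_mem] at ht
    simp only [MulAut.smul_def, MulAut.conj_inv_apply] at ht
    rw [Subgroup.mem_centralizer_singleton_iff]
    have := hwcen _ ht
    rw [← hh]
    calc t * (h * w * h⁻¹) = h * ((h⁻¹ * t * h) * w) * h⁻¹ := by group
      _ = h * (w * (h⁻¹ * t * h)) * h⁻¹ := by rw [this]
      _ = (h * w * h⁻¹) * t := by group
  have hEH : E ≤ Subgroup.centralizer {y} := by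
    intro a ha
    rw [Subgroup.mem_centralizer_singleton_iff]
    exact FourGroup.comm_of_mem E ha hy
  have hE2 : IsPGroup 2 E := IsPGroup.of_card (n := 2) (by rw [hE.card_four]; norm_num)
  obtain ⟨k, hkH, hk⟩ := exists_conj_mem_sylow (h • S) _ hS'H E hE2 hEH
  obtain ⟨h', hh'⟩ : ∃ h' : Γ, h' = k⁻¹ * h := ⟨_, rfl⟩
  have hky : k * y = y * k := Subgroup.mem_centralizer_singleton_iff.mp hkH
  have hh'w : h' * w * h'⁻¹ = y := by
    rw [hh']
    calc k⁻¹ * h * w * (k⁻¹ * h)⁻¹ = k⁻¹ * (h * w * h⁻¹) * k := by group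
      _ = k⁻¹ * y * k := by rw [hh]
      _ = k⁻¹ * (y * k) := by group
      _ = k⁻¹ * (k * y) := by rw [hky]
      _ = y := by group
  have hET : E ≤ conjSub h' S := by
    intro a ha
    rw [mem_conjSub]
    have h1 := hk a ha
    rw [Sylow.coe_subgroup_smul, Subgroup.mem_pointwise_smul_iff_inv_smul_mem] at h1
    simp only [MulAut.smul_def, MulAut.conj_inv_apply] at h1
    have : h'⁻¹ * a * h' = h⁻¹ * (k * a * k⁻¹) * h := by rw [hh']; group
    rw [this]; exact h1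
  obtain ⟨w', hw', hw'1, hw'cen, ⟨d, hdT, hdN, hdm⟩, -⟩ :=
    dihedral_four (conjSub h' (S : Subgroup Γ)) n hn ((conjSubEquiv h' S).symm.trans e) E hE hET
  have hdy : d * y * d⁻¹ = y := by
    rw [mem_conjSub] at hdT
    have := hwcen _ hdT
    rw [← hh'w]
    calc d * (h' * w * h'⁻¹) * d⁻¹ = h' * ((h'⁻¹ * d * h') * w) * h'⁻¹ * d⁻¹ := by group
      _ = h' * (w * (h'⁻¹ * d * h')) * h'⁻¹ * d⁻¹ := by rw [this]
      _ = h' * w * h'⁻¹ := by group
  have hcw : c * w * c⁻¹ = w := by rw [hwcen c hcS, mul_assoc, mul_inv_cancel, mul_one]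
  refine ⟨c * d, ?_, fpf_of_two_swaps E hcN hdN hw hw1 hy hy1 hyw hcw hcm hdy hdm⟩
  intro a ha
  have : c * d * a * (c * d)⁻¹ = c * (d * a * d⁻¹) * c⁻¹ := by group
  rw [this]; exact hcN _ (hdN a ha)

/-- the dihedral case of order at least eight is impossible -/
theorem false_of_two_le [Finite Γ] (hperf : commutator Γ = ⊤) (S : Sylow 2 Γ) (n : ℕ) (hn : 2 ≤ n)
    (e : (S : Subgroup Γ) ≃* DihedralGroup (2 ^ n)) (hodd3 : ∀ P : Sylow 3 Γ, IsCyclic P)
    (exE : ∀ x y : Γ, orderOf x = 3 → orderOf y = 3 → Subgroup.zpowers x ≠ Subgroup.zpowers y →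
      ∃ U : Subgroup Γ, Zf.Special U)
    (uniq : ∀ U U' : Subgroup Γ, Zf.Special U → Zf.Special U' →
      (∃ z : Γ, z ≠ 1 ∧ z ∈ U ∧ z ∈ U') → U = U') : False := by
  haveI : Fact (Nat.Prime 2) := ⟨Nat.prime_two⟩
  obtain ⟨E0, hE0, hE0S⟩ := exists_four_le (S : Subgroup Γ) n hn e
  obtain ⟨g0, hg0N, hg0f⟩ := exists_fpf hperf S n hn e E0 hE0 hE0S
  have h3 : 3 ∣ Nat.card Γ := by
    haveI := hE0
    exact (three_dvd_orderOf E0 hg0N hg0f).trans (orderOf_dvd_natCard g0)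
  obtain ⟨x, y, hx, hy, hxy⟩ := exists_two_order_three hperf hodd3 h3
  obtain ⟨U, hU⟩ := exE x y hx hy hxy
  have hU2 : IsPGroup 2 U := IsPGroup.of_card (n := 2) (by rw [hU.1.card_four]; norm_num)
  obtain ⟨k, hk⟩ := exists_conj_le_sylow S U hU2
  obtain ⟨U1, hU1def⟩ : ∃ U1, U1 = conjSub k U := ⟨_, rfl⟩
  have hU1 : Zf.Special U1 := by rw [hU1def]; exact special_conjSub hU k
  have hU1S : U1 ≤ S := by
    intro t ht
    rw [hU1def, mem_conjSub] at ht
    have := hk _ ht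
    have e1 : k * (k⁻¹ * t * k) * k⁻¹ = t := by group
    rwa [e1] at this
  obtain ⟨w, hw, hw1, -, -, E2, hE2, hE2S, hE2ne, hwE2⟩ := dihedral_four S n hn e U1 hU1.1 hU1S
  have hE2ns : ¬ Zf.Special E2 := fun hs => hE2ne (uniq E2 U1 hs hU1 ⟨w, hw1, hwE2, hw⟩)
  obtain ⟨g2, hg2N, hg2f⟩ := exists_fpf hperf S n hn e E2 hE2 hE2S
  have h3g : 3 ∣ orderOf g2 := by
    haveI := hE2
    exact three_dvd_orderOf E2 hg2N hg2f
  obtain ⟨x3, hx3def⟩ : ∃ x3, x3 = g2 ^ (orderOf g2 / 3) := ⟨_, rfl⟩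
  have hx3o : orderOf x3 = 3 := by
    rw [hx3def]; exact orderOf_pow_orderOf_div (orderOf_pos g2).ne' h3g
  have hx3N : ∀ a ∈ E2, x3 * a * x3⁻¹ ∈ E2 := by
    rw [hx3def]; exact pow_conj_mem hg2N _
  have hx3C : ∀ a ∈ E2, x3 * a * x3⁻¹ = a := by
    by_contra hcon
    push Not at hcon
    obtain ⟨a, ha, hne⟩ := hcon
    exact hE2ns ⟨hE2, x3, hx3o, mem_normalizer_of_forall hx3N, a, ha, hne⟩
  have hx3w : x3 * w * x3⁻¹ = w := hx3C w hwE2
  have hCw : ∀ t : Γ, t * w * t⁻¹ = w → ∀ a ∈ U1, t * a * t⁻¹ ∈ U1 := by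
    intro t ht a ha
    have h1 : Zf.Special (conjSub t U1) := special_conjSub hU1 t
    have hwt : w ∈ conjSub t U1 := by
      have := conj_mem_conjSub (h := t) hw
      rwa [ht] at this
    have h2 : conjSub t U1 = U1 := uniq _ _ h1 hU1 ⟨w, hw1, hwt, hw⟩
    rw [← h2]; exact conj_mem_conjSub ha
  have hx3U1 : ∀ a ∈ U1, x3 * a * x3⁻¹ = a := by
    haveI := hU1.1
    exact centralizes_of_cube U1 (by rw [← hx3o]; exact pow_orderOf_eq_one x3) (hCw x3 hx3w)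
      hw hw1 hx3w
  obtain ⟨-, x1, hx1o, hx1N, a, ha, hx1a⟩ := hU1
  exact false_of_three hodd3 U1 x1 x3 hx1o hx3o hx1N hx3U1 ⟨a, ha, hx1a⟩

end Cfsg.Agent.Lib.Helper8.Zg
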