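import Mathlib
import Cfsg.Agent.Lib.Helper8.ZgD
import Cfsg.Agent.Lib.Helper1.V4c14

set_option autoImplicit false
set_option maxHeartbeats 1000000
set_option linter.unusedVariables false
set_option linter.unusedSectionVars false
set_option linter.style.longLine false
set_option linter.style.haveILetI false

/-!
# S0690, part G, file E: the Klein four case and the main theorem.
-/

namespace Cfsg.Agent.Lib.Helper8.Zg

open Cfsg.Agent.Lib.Helper7 Cfsg.Agent.Lib.Helper2

variable {Γ : Type*} [Group Γ]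

/-- a normal cyclic subgroup of odd order of a perfect group with cyclic odd Sylow subgroups is
trivial -/
theorem normal_cyclic_odd_eq_bot [Finite Γ] (hperf : commutator Γ = ⊤)
    (hodd : ∀ (p : ℕ) [Fact p.Prime], p ≠ 2 → ∀ P : Sylow p Γ, IsCyclic P)
    (X : Subgroup Γ) [X.Normal] [IsCyclic X] (hX : ¬ 2 ∣ Nat.card X) : X = ⊥ := by
  by_contra hne
  have h1 : Nat.card X ≠ 1 := by
    intro h; exact hne (Subgroup.card_eq_one.mp h)
  obtain ⟨p, hp, hpd⟩ := Nat.exists_prime_and_dvd h1
  haveI : Fact p.Prime := ⟨hp⟩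
  have hp2 : p ≠ 2 := by rintro rfl; exact hX hpd
  obtain ⟨x, hx⟩ := exists_prime_orderOf_dvd_card' p hpd
  have hxo : orderOf (x : Γ) = p := by rw [Subgroup.orderOf_coe]; exact hx
  refine no_central_prime hperf p (hodd p hp2) (x : Γ) hxo (fun h => ?_)
  have := normal_cyclic_central hperf X x x.2 h
  calc h * x = (h * x * h⁻¹) * h := by group
    _ = x * h := by rw [this]

/-- Burnside: a Klein four Sylow subgroup of a perfect group is normalized by an element acting
without fixed points on its involutions -/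
theorem exists_fpf_klein [Finite Γ] (hperf : commutator Γ = ⊤) (S : Sylow 2 Γ)
    (hK : IsKleinFour (S : Subgroup Γ)) :
    ∃ g : Γ, (∀ a ∈ (S : Subgroup Γ), g * a * g⁻¹ ∈ (S : Subgroup Γ)) ∧
      ∀ a ∈ (S : Subgroup Γ), a ≠ 1 → g * a * g⁻¹ ≠ a := by
  haveI := hK
  haveI : Fact (Nat.Prime 2) := ⟨Nat.prime_two⟩
  have hNC : ¬ (Subgroup.normalizer ((S : Subgroup Γ) : Set Γ)
      ≤ Subgroup.centralizer ((S : Subgroup Γ) : Set Γ)) := by
    intro hNC
    have hN := MonoidHom.ker_transferSylow_isComplement' S hNC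
    have htop : (MonoidHom.transferSylow S hNC).ker = ⊤ := by
      rw [eq_top_iff]
      intro g _
      rw [MonoidHom.mem_ker]
      exact hom_apply_eq_one hperf _ (fun a b => Subtype.ext (by
        rw [Subgroup.coe_mul, Subgroup.coe_mul]
        exact FourGroup.comm_of_mem (S : Subgroup Γ) (Subtype.coe_prop _) (Subtype.coe_prop _))) g
    rw [htop] at hN
    have := hN.disjoint.eq_bot
    rw [top_inf_eq] at this
    have h4 := hK.card_four
    rw [this, Subgroup.card_bot] at h4
    norm_num at h4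
  rw [SetLike.not_le_iff_exists] at hNC
  obtain ⟨g, hgN, hgc⟩ := hNC
  refine ⟨g, fun a ha => conj_mem_of_mem_normalizer hgN ha, fun a ha ha1 h => hgc ?_⟩
  exact Cfsg.Agent.Lib.Helper6.Q8.centralizes_of_fixes_involution S hK a ha
    (FourGroup.orderOf_of_mem _ ha ha1) g hgN h

theorem isCyclic_of_two_group_of_odd {H : Type*} [Group H] [Finite H] (P : Subgroup H)
    (hP : IsPGroup 2 P) (m : ℕ) (hm : ¬ 2 ∣ m) (hd : Nat.card P ∣ m) : IsCyclic P := by
  obtain ⟨k, hk⟩ := hP.exists_card_eq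
  have hk0 : k = 0 := by
    by_contra hk0
    apply hm
    exact (dvd_pow_self 2 hk0).trans (hk ▸ hd)
  rw [hk0, pow_zero] at hk
  haveI : Subsingleton P := (Nat.card_eq_one_iff_unique.mp hk).1
  infer_instance

/-- simplicity in the Klein four case -/
theorem isSimpleGroup_of_klein [Finite Γ] (hperf : commutator Γ = ⊤) (S : Sylow 2 Γ)
    (hK : IsKleinFour (S : Subgroup Γ))
    (hodd : ∀ (p : ℕ) [Fact p.Prime], p ≠ 2 → ∀ P : Sylow p Γ, IsCyclic P)
    (g0 : Γ) (hg0N : ∀ a ∈ (S : Subgroup Γ), g0 * a * g0⁻¹ ∈ (S : Subgroup Γ))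
    (hg0f : ∀ a ∈ (S : Subgroup Γ), a ≠ 1 → g0 * a * g0⁻¹ ≠ a) : IsSimpleGroup Γ := by
  haveI := hK
  haveI : Fact (Nat.Prime 2) := ⟨Nat.prime_two⟩
  have hnt : Nontrivial Γ := by
    obtain ⟨b, hb, hb1, -⟩ := FourGroup.exists_third (S : Subgroup Γ) (one_mem _)
    exact ⟨⟨b, 1, hb1⟩⟩
  refine { toNontrivial := hnt, eq_bot_or_eq_top_of_normal := fun N hN => ?_ }
  by_cases h2 : 2 ∣ Nat.card N
  · right
    obtain ⟨t, ht⟩ := exists_prime_orderOf_dvd_card' 2 h2
    have hto : orderOf (t : Γ) = 2 := by rw [Subgroup.orderOf_coe]; exact ht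
    have hpt : IsPGroup 2 (Subgroup.zpowers (t : Γ)) :=
      IsPGroup.of_card (n := 1) (by rw [Nat.card_zpowers, hto, pow_one])
    obtain ⟨c, hc⟩ := exists_conj_le_sylow S _ hpt
    obtain ⟨a, hadef⟩ : ∃ a : Γ, a = c * t * c⁻¹ := ⟨_, rfl⟩
    have haS : a ∈ (S : Subgroup Γ) := by rw [hadef]; exact hc _ (Subgroup.mem_zpowers _)
    have haN : a ∈ N := by rw [hadef]; exact hN.conj_mem _ t.2 c
    have ht1 : (t : Γ) ≠ 1 := by
      intro h; rw [h, orderOf_one] at hto; norm_num at hto
    have ha1 : a ≠ 1 := by rw [hadef]; exact conj_ne_one ht1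
    obtain ⟨b, hbdef⟩ : ∃ b : Γ, b = g0 * a * g0⁻¹ := ⟨_, rfl⟩
    have hbS : b ∈ (S : Subgroup Γ) := by rw [hbdef]; exact hg0N a haS
    have hbN : b ∈ N := by rw [hbdef]; exact hN.conj_mem _ haN g0
    have hb1 : b ≠ 1 := by rw [hbdef]; exact conj_ne_one ha1
    have hba : b ≠ a := by rw [hbdef]; exact hg0f a haS ha1
    have hSN : (S : Subgroup Γ) ≤ N := by
      intro s hs
      rcases FourGroup.mem_cases _ haS hbS ha1 hb1 (Ne.symm hba) hs with h | h | h | h
      · rw [h]; exact one_mem N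
      · rw [h]; exact haN
      · rw [h]; exact hbN
      · rw [h]; exact N.mul_mem haN hbN
    have hidx : ¬ 2 ∣ N.index :=
      fun h => S.not_dvd_index (h.trans (Subgroup.index_dvd_of_le hSN))
    haveI := hN
    have hZ : IsZGroup (Γ ⧸ N) := by
      refine ⟨fun p hp P => ?_⟩
      haveI := Fact.mk hp
      by_cases hp2 : p = 2
      · subst hp2
        exact isCyclic_of_two_group_of_odd (P : Subgroup (Γ ⧸ N)) P.2 N.index hidx
          (by rw [Subgroup.index_eq_card]; exact Subgroup.card_subgroup_dvd_card _)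
      · obtain ⟨Q, rfl⟩ := Sylow.mapSurjective_surjective (QuotientGroup.mk'_surjective N) p P
        haveI := hodd p hp2 Q
        exact isCyclic_of_surjective _ ((QuotientGroup.mk' N).subgroupMap_surjective Q)
    have hperfQ : commutator (Γ ⧸ N) = ⊤ := by
      rw [commutator_def, ← Subgroup.map_top_of_surjective (QuotientGroup.mk' N)
        (QuotientGroup.mk'_surjective N), ← Subgroup.map_commutator, ← commutator_def, hperf]
    haveI := hZ
    by_contra hNtop
    haveI : Nontrivial (Γ ⧸ N) := by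
      rw [← not_subsingleton_iff_nontrivial]
      intro hsub
      exact hNtop (QuotientGroup.subgroup_eq_top_of_subsingleton N hsub)
    have := Group.IsSolvable.commutator_lt_top_of_nontrivial (Γ ⧸ N)
    rw [hperfQ] at this
    exact lt_irrefl _ this
  · left
    haveI := hN
    have hZN : IsZGroup N := by
      refine ⟨fun p hp P => ?_⟩
      haveI := Fact.mk hp
      by_cases hp2 : p = 2
      · subst hp2
        exact isCyclic_of_two_group_of_odd (P : Subgroup N) P.2 (Nat.card N) h2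
          (Subgroup.card_subgroup_dvd_card _)
      · exact isCyclic_sylow_of_injective (hodd p hp2) N.subtype (Subgroup.subtype_injective N) P
    haveI := hZN
    have hcc : IsCyclic (commutator N) := IsZGroup.isCyclic_commutator N
    have hmap : (commutator N).map N.subtype = ⁅N, N⁆ := Subgroup.map_subtype_commutator N
    haveI hcN' : IsCyclic (⁅N, N⁆ : Subgroup Γ) := by
      rw [← hmap]
      exact isCyclic_of_surjective _
        ((commutator N).equivMapOfInjective N.subtype (Subgroup.subtype_injective N)).surjective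
    have hcard' : ¬ 2 ∣ Nat.card (⁅N, N⁆ : Subgroup Γ) :=
      fun h => h2 (h.trans (Subgroup.card_dvd_of_le (Subgroup.commutator_le_right N N)))
    have hN'bot : ⁅N, N⁆ = ⊥ := normal_cyclic_odd_eq_bot hperf hodd _ hcard'
    have hcomm : commutator N = ⊥ :=
      (Subgroup.map_eq_bot_iff_of_injective _ (Subgroup.subtype_injective N)).mp
        (hmap.trans hN'bot)
    haveI : IsCyclic N := by
      refine isCyclic_of_injective (Abelianization.of : N →* Abelianization N) ?_
      rw [← MonoidHom.ker_eq_bot_iff, Abelianization.ker_of]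
      exact hcomm
    exact normal_cyclic_odd_eq_bot hperf hodd N h2

/-- the Klein four case -/
theorem main_klein [Finite Γ] (hperf : commutator Γ = ⊤) (S : Sylow 2 Γ)
    (hK : IsKleinFour (S : Subgroup Γ))
    (hodd : ∀ (p : ℕ) [Fact p.Prime], p ≠ 2 → ∀ P : Sylow p Γ, IsCyclic P)
    (exE : ∀ x y : Γ, orderOf x = 3 → orderOf y = 3 → Subgroup.zpowers x ≠ Subgroup.zpowers y →
      ∃ U : Subgroup Γ, Zf.Special U)
    (uniq : ∀ U U' : Subgroup Γ, Zf.Special U → Zf.Special U' →
      (∃ z : Γ, z ≠ 1 ∧ z ∈ U ∧ z ∈ U') → U = U') :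
    Nonempty (Γ ≃* alternatingGroup (Fin 5)) := by
  haveI := hK
  haveI : Fact (Nat.Prime 2) := ⟨Nat.prime_two⟩
  haveI : Fact (Nat.Prime 3) := ⟨Nat.prime_three⟩
  obtain ⟨g0, hg0N, hg0f⟩ := exists_fpf_klein hperf S hK
  have hodd3 : ∀ P : Sylow 3 Γ, IsCyclic P := hodd 3 (by norm_num)
  have h3 : 3 ∣ Nat.card Γ :=
    (three_dvd_orderOf (S : Subgroup Γ) hg0N hg0f).trans (orderOf_dvd_natCard g0)
  obtain ⟨x, y, hx, hy, hxy⟩ := exists_two_order_three hperf hodd3 h3
  obtain ⟨U, hU⟩ := exE x y hx hy hxy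
  have hU2 : IsPGroup 2 U := IsPGroup.of_card (n := 2) (by rw [hU.1.card_four]; norm_num)
  obtain ⟨k, hk⟩ := exists_conj_le_sylow S U hU2
  have hU1 : Zf.Special (conjSub k U) := special_conjSub hU k
  have hU1S : conjSub k U ≤ S := by
    intro t ht
    rw [mem_conjSub] at ht
    have := hk _ ht
    have e1 : k * (k⁻¹ * t * k) * k⁻¹ = t := by group
    rwa [e1] at this
  have hUS : conjSub k U = S :=
    Subgroup.eq_of_le_of_card_ge hU1S (by rw [hU1.1.card_four, hK.card_four])
  have hSsp : Zf.Special (S : Subgroup Γ) := hUS ▸ hU1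
  haveI := isSimpleGroup_of_klein hperf S hK hodd g0 hg0N hg0f
  obtain ⟨z, hz, hz1, -⟩ := FourGroup.exists_third (S : Subgroup Γ) (one_mem _)
  have hz2 : orderOf z = 2 := FourGroup.orderOf_of_mem _ hz hz1
  have hle : (S : Subgroup Γ) ≤ Subgroup.centralizer {z} := by
    intro a ha
    rw [Subgroup.mem_centralizer_singleton_iff]
    exact FourGroup.comm_of_mem _ ha hz
  have hCN : Subgroup.centralizer {z} ≤ Subgroup.normalizer ((S : Subgroup Γ) : Set Γ) := by
    intro t ht
    rw [Subgroup.mem_centralizer_singleton_iff] at ht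
    have htz : t * z * t⁻¹ = z := by rw [ht, mul_assoc, mul_inv_cancel, mul_one]
    apply mem_normalizer_of_forall
    intro a ha
    have h1 := special_conjSub hSsp t
    have hzt : z ∈ conjSub t (S : Subgroup Γ) := by
      have := conj_mem_conjSub (h := t) hz
      rwa [htz] at this
    have h2 := uniq _ _ h1 hSsp ⟨z, hz1, hzt, hz⟩
    rw [← h2]; exact conj_mem_conjSub ha
  refine Cfsg.Agent.Lib.Helper1.V4c.main z hz2 (S : Subgroup Γ) hle hK ?_ ?_
  · intro h
    apply S.not_dvd_index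
    rw [← Subgroup.relIndex_mul_index hle]
    exact h.mul_right _
  · exact (Subgroup.normal_subgroupOf_iff_le_normalizer hle).mpr hCN

/-- **Part G of S0690.**  A finite perfect group with dihedral Sylow `2`-subgroups, cyclic odd
Sylow subgroups and the two axioms on special four-groups is isomorphic to `A₅`. -/
theorem main {Γ : Type*} [Group Γ] [Finite Γ] (hperf : commutator Γ = ⊤)
    (S : Sylow 2 Γ) (n : ℕ) (hn : 1 ≤ n)
    (hS : Nonempty ((S : Subgroup Γ) ≃* DihedralGroup (2 ^ n)))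
    (hodd : ∀ (p : ℕ) [Fact p.Prime], p ≠ 2 → ∀ P : Sylow p Γ, IsCyclic P)
    (exE : ∀ x y : Γ, orderOf x = 3 → orderOf y = 3 → Subgroup.zpowers x ≠ Subgroup.zpowers y →
      ∃ U : Subgroup Γ, Zf.Special U)
    (uniq : ∀ U U' : Subgroup Γ, Zf.Special U → Zf.Special U' →
      (∃ z : Γ, z ≠ 1 ∧ z ∈ U ∧ z ∈ U') → U = U') :
    Nonempty (Γ ≃* alternatingGroup (Fin 5)) := by
  haveI : Fact (Nat.Prime 3) := ⟨Nat.prime_three⟩
  obtain ⟨e⟩ := hS
  rcases Nat.lt_or_ge n 2 with h | h
  · have hn1 : n = 1 := by omega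
    subst hn1
    have hK : IsKleinFour (S : Subgroup Γ) := by
      have e' : (S : Subgroup Γ) ≃* DihedralGroup 2 := e
      exact ⟨by rw [Nat.card_congr e'.toEquiv]; exact IsKleinFour.card_four,
        by rw [Monoid.exponent_eq_of_mulEquiv e']; exact IsKleinFour.exponent_two⟩
    exact main_klein hperf S hK hodd exE uniq
  · exact (false_of_two_le hperf S n h e (hodd 3 (by norm_num)) exE uniq).elim

end Cfsg.Agent.Lib.Helper8.Zg
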